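import Groth.Agent.SekSuwa3.GPoints
import Groth.Agent.CAlgH3.FpqcTorsorLocal
import Mathlib.RingTheory.Flat.Stability

/-! Fpqc torsors under `G^(λ)` over a base flat over a domain are Zariski locally trivial. -/

set_option autoImplicit false
set_option backward.isDefEq.respectTransparency false
set_option backward.isDefEq.respectTransparency.types false
set_option synthInstance.maxHeartbeats 400000
set_option maxHeartbeats 1000000

universe u

open CategoryTheory CategoryTheory.Limits AlgebraicGeometry MonoidalCategory CartesianMonoidalCategory MonObj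
open TensorProduct
open Groth.Agent.CommAlg4.WittDescMat Groth.Agent.CAlgH3 Groth.Agent.CAlgH3.FpqcTorsorLocal
open Groth.Agent.SekSuwa3

noncomputable section

namespace Groth.Agent.SekSuwa3

/-- Faithfully flat descent of a class modulo `λ`. -/
theorem exists_congr_of_diff {A B : Type u} [CommRing A] [CommRing B] [Algebra A B] [Module.FaithfullyFlat A B]
    (l : A) (c : B) (z : T2 A B) (h : i2 c - i1 c = l • z) :
    ∃ (a : A) (w : B), c = algebraMap A B a + l • w := by
  let J : Ideal A := Ideal.span {l}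
  let one' : A ⧸ J := 1
  let G : T2 A B →ₗ[A] B ⊗[A] (B ⊗[A] (A ⧸ J)) := LinearMap.lTensor B ((TensorProduct.mk A B (A ⧸ J)).flip one')
  have hl : (l • one' : A ⧸ J) = 0 := by
    rw [Algebra.smul_def]
    show Ideal.Quotient.mk J l * 1 = 0
    rw [Ideal.Quotient.eq_zero_iff_mem.2 (Ideal.mem_span_singleton_self l), zero_mul]
  have hGz : G (l • z) = 0 := by
    rw [map_smul]
    show l • (LinearMap.lTensor B _ z) = 0
    rw [← LinearMap.smul_apply, ← LinearMap.lTensor_smul, ← map_smul, hl, map_zero, LinearMap.lTensor_zero,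
      LinearMap.zero_apply]
  have hx : TensorProduct.mk A B (B ⊗[A] (A ⧸ J)) 1 (c ⊗ₜ one') =
      LinearMap.lTensor B (TensorProduct.mk A B (A ⧸ J) 1) (c ⊗ₜ one') := by
    rw [← sub_eq_zero, ← hGz, ← h, map_sub]
    rfl
  obtain ⟨m, hm⟩ := Desc19b.amitsur_zero A B (A ⧸ J) _ hx
  obtain ⟨a, rfl⟩ := Ideal.Quotient.mk_surjective m
  let J' : Ideal B := J.map (algebraMap A B)
  let π : B ⊗[A] (A ⧸ J) →ₐ[A] B ⧸ J' := Algebra.TensorProduct.lift (Ideal.Quotient.mkₐ A J')
    (Ideal.Quotient.liftₐ J (Algebra.ofId A (B ⧸ J')) fun x hx =>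
      Ideal.Quotient.eq_zero_iff_mem.2 (Ideal.mem_map_of_mem _ hx)) fun _ _ => Commute.all _ _
  have e := congrArg π hm
  simp only [TensorProduct.mk_apply, π, Algebra.TensorProduct.lift_tmul, map_one, _root_.one_mul, one',
    _root_.mul_one] at e
  have e' : Ideal.Quotient.mk J' (algebraMap A B a) = Ideal.Quotient.mk J' c := e
  rw [Ideal.Quotient.eq, show J' = Ideal.span {algebraMap A B l} by simp [J', J, Ideal.map_span],
    Ideal.mem_span_singleton'] at e'
  obtain ⟨w, hw⟩ := e'
  refine ⟨a, -w, ?_⟩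
  rw [Algebra.smul_def]
  linear_combination hw

variable {R : Type u} [CommRing R] [IsDomain R] {lam : R} {S : Scheme.{u}} {g : S ⟶ Spec (CommRingCat.of R)}
  {A : Type u} [CommRing A] [Algebra R A] {j : Spec (CommRingCat.of A) ⟶ S}

theorem val_algebraMap (hj : j ≫ g = Spec.map (CommRingCat.ofHom (algebraMap R A))) (T : Type u) [CommRing T]
    [Algebra A T] [Algebra R T] [IsScalarTower R A T] (r : R) :
    letI := algOf g (Tm j T)
    val T (algebraMap R Γ((Tm j T).left, ⊤) r) = algebraMap R T r := by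
  have e : (Tm j T).hom ≫ g = Spec.map (CommRingCat.ofHom (algebraMap R T)) := by
    show (Spec.map _ ≫ j) ≫ g = _
    rw [Category.assoc, hj, ← Spec.map_comp, ← CommRingCat.ofHom_comp, ← IsScalarTower.algebraMap_eq]
  show (Scheme.ΓSpecIso (CommRingCat.of T)).hom (((Tm j T).hom ≫ g).appTop _) = _
  rw [e]
  erw [← CommRingCat.comp_apply, Scheme.ΓSpecIso_naturality, CommRingCat.comp_apply, Iso.inv_hom_id_apply]
  rfl

theorem regular_Tm (hlam : lam ≠ 0) (hj : j ≫ g = Spec.map (CommRingCat.ofHom (algebraMap R A))) [Module.Flat R A]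
    (T : Type u) [CommRing T] [Algebra A T] [Module.Flat A T] :
    letI := algOf g (Tm j T)
    IsSMulRegular Γ((Tm j T).left, ⊤) lam := by
  letI : Algebra R T := ((algebraMap A T).comp (algebraMap R A)).toAlgebra
  haveI : IsScalarTower R A T := IsScalarTower.of_algebraMap_eq fun _ => rfl
  haveI : Module.Flat R T := Module.Flat.trans R A T
  exact regular_of_flat (g := g) hlam (Scheme.ΓSpecIso (CommRingCat.of T)).hom.hom (val_injective T)
    (val_algebraMap hj T)

variable {X' : Over S}

/-- A torsor under `G^(λ)` has a section near every point of an affine open. -/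
theorem exists_section_G [IsOpenImmersion j] (hlam : lam ≠ 0)
    (hj : j ≫ g = Spec.map (CommRingCat.ofHom (algebraMap R A))) [Module.Flat R A]
    {a : AlgGrp.Action (bcA g (SekSuwa.A R lam)) X'}
    (ha : NonAbH1.IsTorsorFor Scheme.fpqcPrecoverage a) (p : Spec (CommRingCat.of A)) :
    ∃ f : A, f ∉ p.asIdeal ∧
      NonAbH1.HasSectionOver X' (Spec.map (CommRingCat.ofHom (algebraMap A (Localization.Away f))) ≫ j) := by
  classical
  obtain ⟨B, _, _, hB, ⟨x⟩⟩ := exists_algebra_point j ha
  obtain ⟨gam, hgam, hcoc⟩ := exists_cocycle j B ha.1 x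
  let l : A := algebraMap R A lam
  have hmul : ∀ {T : Type u} [CommRing T] (r s : Γ(Spec (CommRingCat.of T), ⊤)), val T (r * s) = val T r * val T s :=
    fun r s => map_mul (Scheme.ΓSpecIso _).hom.hom r s
  have hu : IsUnit (val (T2 A B) (U gam)) := (isUnit_U gam).map (Scheme.ΓSpecIso (CommRingCat.of (T2 A B))).hom.hom
  let uη := hu.unit
  have hη : d12 (uη : T2 A B) * d23 (uη : T2 A B) = d13 (uη : T2 A B) := by
    have h := congrArg (fun m => val (T3 A B) (U m)) hcoc
    simp only [U_mul, U_comp] at h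
    erw [hmul] at h
    simp only [q12, q13, q23, val_map] at h
    rw [mul_comm] at h
    exact h
  obtain ⟨f, hf, c, y, hy, hc⟩ := EtPicAlg.exists_local_primitive uη hη p.asIdeal p.isPrime.ne_top
  letI : Algebra R (T2 A B) := ((algebraMap A (T2 A B)).comp (algebraMap R A)).toAlgebra
  haveI : IsScalarTower R A (T2 A B) := IsScalarTower.of_algebraMap_eq fun _ => rfl
  have huval : (uη : T2 A B) = 1 + l • val (T2 A B) (fn gam SekSuwa.A.t) := by
    show val (T2 A B) (U gam) = _
    rw [U_eq, Algebra.smul_def]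
    show (Scheme.ΓSpecIso _).hom.hom _ = _
    rw [map_add, map_one, map_mul]
    congr 2
    exact val_algebraMap hj (T2 A B) lam
  have hdiff : i2 c - i1 c = l • (i1 c * val (T2 A B) (fn gam SekSuwa.A.t)) := by
    rw [← hc, huval, _root_.mul_add, _root_.mul_one, add_sub_cancel_left, mul_smul_comm]
  obtain ⟨a₀, w, hcw⟩ := exists_congr_of_diff l c _ hdiff
  let h₀ : A := if l ∈ p.asIdeal then a₀ else l
  have hh₀ : h₀ ∉ p.asIdeal := by
    by_cases hl : l ∈ p.asIdeal
    · simp only [h₀, if_pos hl]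
      intro ha₀
      obtain ⟨q, hq⟩ := PrimeSpectrum.comap_surjective_of_faithfullyFlat (A := A) (B := B) p
      have hql : ∀ r ∈ p.asIdeal, algebraMap A B r ∈ q.asIdeal := fun r hr => by rw [← hq] at hr; exact hr
      refine hf ?_
      rw [← hq]
      show algebraMap A B f ∈ q.asIdeal
      rw [← hy, hcw, Algebra.smul_def]
      exact Ideal.mul_mem_right _ _ (add_mem (hql _ ha₀) (Ideal.mul_mem_right _ _ (hql _ hl)))
    · simpa only [h₀, if_neg hl] using hl
  refine ⟨f * h₀, fun hm => (p.isPrime.mem_or_mem hm).elim hf hh₀, ?_⟩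
  let R₁ := Localization.Away (f * h₀)
  let B' := R₁ ⊗[A] B
  let φ : B →+* B' := (Algebra.TensorProduct.includeRight : B →ₐ[A] B').toRingHom
  have hφA : φ.comp (algebraMap A B) = algebraMap A B' :=
    RingHom.ext fun r => (Algebra.TensorProduct.includeRight : B →ₐ[A] B').commutes r
  have hfh : IsUnit (algebraMap A B' (f * h₀)) := by
    rw [IsScalarTower.algebraMap_apply A R₁ B']
    exact (IsLocalization.Away.algebraMap_isUnit (f * h₀)).map _
  have hfu : IsUnit (algebraMap A B' f) := by rw [map_mul] at hfh; exact isUnit_of_mul_isUnit_left hfh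
  have hhu : IsUnit (algebraMap A B' h₀) := by rw [map_mul] at hfh; exact isUnit_of_mul_isUnit_right hfh
  have hcu : IsUnit (φ c) := by
    have h : IsUnit (φ (algebraMap A B f)) := by rw [← RingHom.comp_apply, hφA]; exact hfu
    rw [← hy, map_mul] at h
    exact isUnit_of_mul_isUnit_left h
  -- normalise `c` to be congruent to one
  obtain ⟨b, k, hku, hk1, hbk⟩ : ∃ (b : B') (k : B'), IsUnit k ∧ i1 (R := R₁) k = i2 k ∧
      φ c * k = 1 + algebraMap A B' l * b := by
    have hi : ∀ (r : R₁), i1 (R := R₁) (algebraMap R₁ B' r) = i2 (algebraMap R₁ B' r) := fun r =>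
      (RingHom.congr_fun (i1_comp (A := R₁) B') r).trans (RingHom.congr_fun (i2_comp (A := R₁) B') r).symm
    by_cases hl : l ∈ p.asIdeal
    · obtain ⟨va, hva⟩ : IsUnit (algebraMap A R₁ h₀) := by
        have := IsLocalization.Away.algebraMap_isUnit (S := R₁) (f * h₀)
        rw [map_mul] at this
        exact isUnit_of_mul_isUnit_right this
      refine ⟨φ w * algebraMap R₁ B' ↑va⁻¹, algebraMap R₁ B' ↑va⁻¹, va⁻¹.isUnit.map _, hi _, ?_⟩
      have e1 : algebraMap A B' a₀ * algebraMap R₁ B' ↑va⁻¹ = 1 := by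
        rw [IsScalarTower.algebraMap_apply A R₁ B', ← map_mul, show a₀ = h₀ by simp [h₀, hl], ← hva,
          Units.mul_inv, map_one]
      rw [hcw, map_add, Algebra.smul_def, map_mul, ← RingHom.comp_apply, ← RingHom.comp_apply, hφA]
      linear_combination e1
    · have hh : h₀ = l := by simp [h₀, hl]
      have hhu : IsUnit (algebraMap A B' l) := (congrArg IsUnit (congrArg (algebraMap A B') hh)).mp hhu
      refine ⟨(φ c - 1) * ↑hhu.unit⁻¹, 1, isUnit_one, by rw [map_one, map_one], ?_⟩
      linear_combination -(φ c - 1) * hhu.mul_val_inv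
  obtain ⟨v, hv⟩ : ∃ v : Tm j B' ⟶ bcA g (SekSuwa.A R lam), val B' (U v) = φ c * k := by
    obtain ⟨b', hb'⟩ : ∃ b' : Γ((Tm j B').left, ⊤), val B' b' = b := val_surjective B' b
    letI := algOf g (Tm j B')
    have e : val B' ((1 : Γ((Tm j B').left, ⊤)) + algebraMap R Γ((Tm j B').left, ⊤) lam * b' : Γ((Tm j B').left, ⊤)) = φ c * k := by
      show (Scheme.ΓSpecIso _).hom.hom _ = _
      rw [map_add, map_one, map_mul, hbk, ← hb']
      congr 2
      exact val_algebraMap hj B' lam
    obtain ⟨v, hv⟩ := exists_U (lam := lam) (g := g) (X := Tm j B') b' (by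
      have hu' := (e ▸ hcu.mul hku).map (Scheme.ΓSpecIso (CommRingCat.of B')).inv.hom
      simpa [val] using hu')
    exact ⟨v, by rw [hv, e]⟩
  obtain ⟨ψ, hψA, hψ1, hψ2⟩ := exists_double (A := A) R₁ B' (Algebra.TensorProduct.includeRight : B →ₐ[A] B')
  haveI : Module.FaithfullyFlat R₁ B' := inferInstance
  have key : i1 (φ c * k) * ψ (val (T2 A B) (U gam)) = (i2 (φ c * k) : T2 R₁ B') := by
    have h := congrArg ψ hc
    rw [map_mul, ← RingHom.comp_apply, hψ1, ← RingHom.comp_apply, hψ2] at h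
    rw [map_mul, map_mul, hk1, mul_right_comm]
    exact congrArg (· * i2 k) h
  refine hasSection_of_coboundary j R₁ B' a x gam hgam φ hφA ψ hψA hψ1 hψ2 v⁻¹ fun h1 h2 => ?_
  haveI : Module.Flat A R₁ := IsLocalization.flat R₁ (Submonoid.powers (f * h₀))
  haveI : Module.Flat R₁ (T2 R₁ B') := inferInstance
  haveI : Module.Flat A (T2 R₁ B') := Module.Flat.trans A R₁ (T2 R₁ B')
  refine ext_U (regular_Tm hlam hj (T2 R₁ B')) (val_injective _ ?_)
  rw [U_mul, U_comp, U_comp, U_comp]
  erw [hmul]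
  rw [val_map, val_map, val_map]
  have hinv : val B' (U v⁻¹) * (φ c * k) = 1 := by
    rw [← hv]
    erw [← hmul]
    rw [U_inv_mul]
    exact map_one (Scheme.ΓSpecIso (CommRingCat.of B')).hom.hom
  have e1 : i1 (val B' (U v⁻¹)) * i1 (φ c * k) = (1 : T2 R₁ B') := by rw [← map_mul, hinv, map_one]
  have e2 : i2 (val B' (U v⁻¹)) * i2 (φ c * k) = (1 : T2 R₁ B') := by rw [← map_mul, hinv, map_one]
  linear_combination (-(i1 (val B' (U v⁻¹)))) * e2 + (i2 (val B' (U v⁻¹)) * ψ (val (T2 A B) (U gam))) * e1 +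
    (-(i1 (val B' (U v⁻¹))) * i2 (val B' (U v⁻¹))) * key

end Groth.Agent.SekSuwa3
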