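import Groth.Agent.SekSuwa3.GTorsor
import Groth.Agent.FlatMor12.TorsorTwist
import Groth.Prelude.Def_SekSuwa

/-! Torsors under `G^(λ)`: global triviality from lifting of units and triviality of `𝔾ₘ`-torsors. -/

set_option autoImplicit false
set_option backward.isDefEq.respectTransparency false
set_option backward.isDefEq.respectTransparency.types false
set_option synthInstance.maxHeartbeats 400000
set_option maxHeartbeats 1000000

universe u

open CategoryTheory CategoryTheory.Limits AlgebraicGeometry MonoidalCategory CartesianMonoidalCategory MonObj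

noncomputable section

namespace Groth.Agent.SekSuwa3

variable {R : Type u} [CommRing R] {lam : R} {X : Scheme.{u}} {f : X ⟶ Spec (CommRingCat.of R)}

local notation "ZA" => MonoidAlgebra R (Multiplicative ℤ)

/-- The coordinate of `𝔾ₘ`. -/
def zf {T : Over X} (x : T ⟶ bcA f ZA) : Γ(T.left, ⊤) :=
  fn x (MonoidAlgebra.single (Multiplicative.ofAdd (1 : ℤ)) 1)

theorem zf_comp {T T' : Over X} (h : T' ⟶ T) (x : T ⟶ bcA f ZA) : zf (h ≫ x) = h.left.appTop (zf x) := rfl

theorem zf_mul {T : Over X} (x y : T ⟶ bcA f ZA) : zf (x * y) = zf x * zf y := by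
  letI := algOf f T
  rw [zf, fn_mul, MonoidAlgebra.comul_single]
  simp
  rfl

theorem zf_injective {T : Over X} {x y : T ⟶ bcA f ZA} (h : zf x = zf y) : x = y := by
  letI := algOf f T
  refine fn_injective (congrArg AlgHom.toRingHom
    (((MonoidAlgebra.lift R Γ(T.left, ⊤) _).symm.injective ?_ : fnAlg x = fnAlg y)))
  have key : ((fnAlg x).toMonoidHom.comp (MonoidAlgebra.of R (Multiplicative ℤ))) =
      (fnAlg y).toMonoidHom.comp (MonoidAlgebra.of R (Multiplicative ℤ)) := MonoidHom.ext_mint h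
  exact key

theorem isUnit_zf {T : Over X} (x : T ⟶ bcA f ZA) : IsUnit (zf x) :=
  IsUnit.map (fn x) ⟨⟨_, MonoidAlgebra.single (Multiplicative.ofAdd (-1 : ℤ)) 1,
    by simp [MonoidAlgebra.single_mul_single, ← ofAdd_add, MonoidAlgebra.one_def],
    by simp [MonoidAlgebra.single_mul_single, ← ofAdd_add, MonoidAlgebra.one_def]⟩, rfl⟩

theorem zf_one {T : Over X} : zf (1 : T ⟶ bcA f ZA) = 1 := by
  have h := (congrArg zf (_root_.mul_one (1 : T ⟶ bcA f ZA))).symm.trans (zf_mul _ _)
  exact (isUnit_zf _).mul_eq_left.1 h.symm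

theorem exists_zf {T : Over X} {r : Γ(T.left, ⊤)} (hr : IsUnit r) : ∃ x : T ⟶ bcA f ZA, zf x = r := by
  letI := algOf f T
  obtain ⟨x, hx⟩ := fnAlg_surjective (g := f) (X := T) (A := ZA)
    (MonoidAlgebra.lift R Γ(T.left, ⊤) (Multiplicative ℤ) ((Units.coeHom _).comp (zpowersHom _ hr.unit)))
  exact ⟨x, (DFunLike.congr_fun hx _).trans (by simp)⟩

/-- The map `α^λ` on the base. -/
def alphaX (lam : R) (f : X ⟶ Spec (CommRingCat.of R)) : bcA f (SekSuwa.A R lam) ⟶ bcA f ZA :=
  (Over.pullback f).map (SekSuwa.alpha R lam)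

theorem zf_alphaX {T : Over X} (x : T ⟶ bcA f (SekSuwa.A R lam)) : zf (x ≫ alphaX lam f) = U x := by
  rw [zf, alphaX, fn_map x (SekSuwa.alphaHom R lam : ZA →ₐ[R] SekSuwa.A R lam) _ rfl]
  exact congrArg (fn x) (by simp [SekSuwa.alphaHom]; rfl)

theorem U_eq_one_of_zero {T : Over X} (x : T ⟶ bcA f (SekSuwa.A R lam))
    (h : letI := algOf f T; algebraMap R Γ(T.left, ⊤) lam = 0) : U x = 1 := by
  letI := algOf f T
  rw [U_eq, h, zero_mul, add_zero]

variable [IsDomain R]

/-- A nonzero element of a domain is regular on the functions of a scheme flat over it. -/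
theorem regular_flat (hlam : lam ≠ 0) (T : Over X) [Flat (T.hom ≫ f)] :
    letI := algOf f T
    IsSMulRegular Γ(T.left, ⊤) lam := by
  letI := algOf f T
  intro a b hab
  refine T.left.sheaf.eq_of_locally_eq' (fun U : T.left.affineOpens => U.1) ⊤ (fun U => homOfLE le_top)
    (le_of_eq (iSup_affineOpens_eq_top T.left).symm) a b fun V => ?_
  obtain ⟨φ, hφ⟩ := Spec.map_surjective (V.2.fromSpec ≫ T.hom ≫ f)
  letI : Algebra R Γ(T.left, V.1) := φ.hom.toAlgebra
  haveI : Flat (Spec.map φ) := by rw [hφ]; infer_instance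
  haveI : Module.Flat R Γ(T.left, V.1) :=
    RingHom.flat_algebraMap_iff.1 ((HasRingHomProperty.Spec_iff (P := @Flat)).1 ‹Flat (Spec.map φ)›)
  have hres : ∀ r : R, T.left.presheaf.map (homOfLE le_top).op (algebraMap R Γ(T.left, ⊤) r) =
      algebraMap R Γ(T.left, V.1) r := fun r => by
    apply (Scheme.ΓSpecIso Γ(T.left, V.1)).symm.commRingCatIsoToRingEquiv.injective
    have e := congrArg (fun m : Spec Γ(T.left, V.1) ⟶ Spec (CommRingCat.of R) =>
      m.appTop ((Scheme.ΓSpecIso (CommRingCat.of R)).inv r)) hφ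
    have hV : IsAffineOpen V.1 := V.2
    have e1 : ∀ z : Γ(T.left, ⊤), hV.fromSpec.appTop z =
        (Scheme.ΓSpecIso Γ(T.left, V.1)).inv (T.left.presheaf.map (homOfLE le_top).op z) := by
      intro z
      rw [show hV.fromSpec.appTop = hV.fromSpec.app ⊤ from rfl, hV.fromSpec_app_of_le ⊤ le_top]
      simp
      exact (ConcreteCategory.congr_hom (Scheme.ΓSpecIso_inv_naturality _) z).symm
    simp only [Scheme.Hom.comp_appTop, CommRingCat.comp_apply] at e
    erw [e1] at e
    exact e.symm.trans (ConcreteCategory.congr_hom (Scheme.ΓSpecIso_inv_naturality φ) r).symm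
  refine (Module.Flat.isSMulRegular_of_nonZeroDivisors (M := Γ(T.left, V.1)) (mem_nonZeroDivisors_of_ne_zero hlam)) ?_
  show lam • T.left.presheaf.map (homOfLE le_top).op a = lam • T.left.presheaf.map (homOfLE le_top).op b
  rw [Algebra.smul_def, Algebra.smul_def, ← hres, ← map_mul, ← map_mul, ← Algebra.smul_def, ← Algebra.smul_def]
  exact congrArg _ hab

open NonAbLib in
/-- A torsor under `G^(λ)` whose push-forward is trivial has a section, when units lift from `λ = 0`. -/
theorem hasSection_of_push (hlam : lam ≠ 0) [Flat f]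
    (hunit : Function.Surjective (Units.map
      (pullback.fst f (Spec.map (CommRingCat.ofHom (Ideal.Quotient.mk (Ideal.span ({lam} : Set R)))))).appTop.hom.toMonoidHom))
    {P Q : Over X} (a : AlgGrp.Action (bcA f (SekSuwa.A R lam)) P) (b : AlgGrp.Action (bcA f ZA) Q)
    (ha : NonAbH1.IsTorsorFor Scheme.fpqcPrecoverage a) (hb : NonAbH1.IsPseudoTorsorSch b)
    (q : P ⟶ Q) (hq : a.act ≫ q = lift (fst _ P ≫ alphaX lam f) (snd _ P ≫ q) ≫ b.act)
    (σ : Over.mk (𝟙 X) ⟶ Q) : NonAbH1.HasSectionOver P (𝟙 X) := by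
  -- local sections on affine opens
  have hloc : ∀ x : X, ∃ (B : Type u) (_ : CommRing B) (_ : Algebra R B) (k : Spec (CommRingCat.of B) ⟶ X),
      Module.Flat R B ∧ IsOpenImmersion k ∧ k ≫ f = Spec.map (CommRingCat.ofHom (algebraMap R B)) ∧
        x ∈ Set.range k ∧ Nonempty (Over.mk k ⟶ P) := by
    intro x
    obtain ⟨_, ⟨V, hV, rfl⟩, hxV, -⟩ :=
      X.isBasis_affineOpens.exists_subset_of_mem_open (Set.mem_univ x) isOpen_univ
    obtain ⟨φ, hφ⟩ := Spec.map_surjective (hV.fromSpec ≫ f)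
    letI : Algebra R Γ(X, V) := φ.hom.toAlgebra
    have hj : hV.fromSpec ≫ f = Spec.map (CommRingCat.ofHom (algebraMap R Γ(X, V))) := hφ.symm
    haveI : Flat (Spec.map φ) := by rw [hφ]; infer_instance
    haveI : Module.Flat R Γ(X, V) :=
      RingHom.flat_algebraMap_iff.1 ((HasRingHomProperty.Spec_iff (P := @Flat)).1 ‹Flat (Spec.map φ)›)
    obtain ⟨p, hp⟩ : x ∈ Set.range hV.fromSpec := by rw [hV.range_fromSpec]; exact hxV
    obtain ⟨h, hh, s, hs⟩ := exists_section_G (g := f) (j := hV.fromSpec) hlam hj ha p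
    haveI : Module.Flat Γ(X, V) (Localization.Away h) := IsLocalization.flat _ (Submonoid.powers h)
    refine ⟨Localization.Away h, inferInstance, inferInstance, _, Module.Flat.trans R Γ(X, V) (Localization.Away h),
      (inferInstance : IsOpenImmersion (Spec.map (CommRingCat.ofHom (algebraMap Γ(X, V) (Localization.Away h))) ≫ hV.fromSpec)),
      ?_, ?_, ⟨Over.homMk s hs⟩⟩
    · rw [Category.assoc, hj, ← Spec.map_comp, ← CommRingCat.ofHom_comp, ← IsScalarTower.algebraMap_eq]
    · obtain ⟨p', hp'⟩ : p ∈ Set.range (Spec.map (CommRingCat.ofHom (algebraMap Γ(X, V) (Localization.Away h)))) := by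
        show p ∈ Set.range (PrimeSpectrum.comap (algebraMap Γ(X, V) (Localization.Away h)))
        rw [PrimeSpectrum.localization_away_comap_range (Localization.Away h) h]
        exact hh
      exact ⟨p', (Scheme.Hom.comp_apply _ _ _).trans ((congrArg _ hp').trans hp)⟩
  choose B _ _ k hflat hopen hkf hmem hs using hloc
  let T : X → Over X := fun x => Over.mk (k x)
  let s : ∀ x, T x ⟶ P := fun x => (hs x).some
  let one' : ∀ S' : Over X, S' ⟶ Over.mk (𝟙 X) := fun S' => Over.homMk S'.hom (Category.comp_id _)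
  have huniq : ∀ {S' : Over X} (v v' : S' ⟶ Over.mk (𝟙 X)), v = v' := fun v v' =>
    Over.OverMorphism.ext ((Category.comp_id _).symm.trans ((Over.w v).trans ((Over.w v').symm.trans (Category.comp_id _))))
  choose c hc using fun x => (existsUnique_actPt hb (one' (T x) ≫ σ) (s x ≫ q)).exists
  -- translation between local sections
  have hdiff : ∀ {S' : Over X} (x y : X) (p₁ : S' ⟶ T x) (p₂ : S' ⟶ T y),
      ∃ d : S' ⟶ bcA f (SekSuwa.A R lam), actPt a d (p₁ ≫ s x) = p₂ ≫ s y ∧
        U d * zf (p₁ ≫ c x) = zf (p₂ ≫ c y) := by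
    intro S' x y p₁ p₂
    obtain ⟨d, hd⟩ := (existsUnique_actPt ha.1 (p₁ ≫ s x) (p₂ ≫ s y)).exists
    refine ⟨d, hd, ?_⟩
    have e : (d ≫ alphaX lam f) * (p₁ ≫ c x) = p₂ ≫ c y := by
      refine (existsUnique_actPt hb (one' S' ≫ σ) (p₂ ≫ s y ≫ q)).unique ?_ ?_
      · rw [actPt_mul, show one' S' ≫ σ = p₁ ≫ one' (T x) ≫ σ by rw [← Category.assoc, huniq (one' S') (p₁ ≫ one' (T x))],
          ← comp_actPt, hc, ← Category.assoc, ← FlatMor12.TorsorPush.actPt_equivariant _ q hq, hd, Category.assoc]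
      · rw [show one' S' ≫ σ = p₂ ≫ one' (T y) ≫ σ by rw [← Category.assoc, huniq (one' S') (p₂ ≫ one' (T y))],
          ← comp_actPt, hc]
    rw [← zf_alphaX, ← zf_mul, e]
  -- the unit on the locus `λ = 0`
  let gl := Spec.map (CommRingCat.ofHom (Ideal.Quotient.mk (Ideal.span ({lam} : Set R))))
  let i₀ := pullback.fst f gl
  let 𝒰 : X.OpenCover := Scheme.Cover.mkOfCovers X (fun x => Spec (CommRingCat.of (B x))) k
    (fun x => ⟨x, hmem x⟩) hopen
  have hzero : ∀ (Z : Scheme.{u}) (v : Z ⟶ pullback f gl) ,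
      ((v ≫ i₀) ≫ f).appTop ((Scheme.ΓSpecIso (CommRingCat.of R)).inv lam) = 0 := by
    intro Z v
    have e : (v ≫ i₀) ≫ f = (v ≫ pullback.snd f gl) ≫ gl := by
      rw [Category.assoc, Category.assoc, pullback.condition]
    rw [e]
    show (v ≫ pullback.snd f gl).appTop (gl.appTop ((Scheme.ΓSpecIso (CommRingCat.of R)).inv lam)) = 0
    have e0 := (ConcreteCategory.congr_hom (Scheme.ΓSpecIso_inv_naturality
      (CommRingCat.ofHom (Ideal.Quotient.mk (Ideal.span ({lam} : Set R))))) lam).symm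
    refine (congrArg (v ≫ pullback.snd f gl).appTop e0).trans ?_
    show (v ≫ pullback.snd f gl).appTop ((Scheme.ΓSpecIso _).inv (Ideal.Quotient.mk (Ideal.span ({lam} : Set R)) lam)) = 0
    rw [Ideal.Quotient.eq_zero_iff_mem.2 (Ideal.mem_span_singleton_self lam), map_zero]
    exact map_zero _
  let 𝒱 := 𝒰.pullback₁ i₀
  let loc : ∀ x, 𝒱.X x ⟶ (bcA f ZA).left := fun x => pullback.snd i₀ (k x) ≫ (c x).left
  have hcompat : ∀ x y, pullback.fst (𝒱.f x) (𝒱.f y) ≫ loc x = pullback.snd (𝒱.f x) (𝒱.f y) ≫ loc y := by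
    intro x y
    let v := pullback.fst (𝒱.f x) (𝒱.f y) ≫ pullback.fst i₀ (k x)
    let S' : Over X := Over.mk (v ≫ i₀)
    let p₁ : S' ⟶ T x := Over.homMk (pullback.fst (𝒱.f x) (𝒱.f y) ≫ pullback.snd i₀ (k x)) (by
      show (_ ≫ _) ≫ k x = (_ ≫ _) ≫ i₀
      rw [Category.assoc, Category.assoc, pullback.condition])
    let p₂ : S' ⟶ T y := Over.homMk (pullback.snd (𝒱.f x) (𝒱.f y) ≫ pullback.snd i₀ (k y)) (by
      show (_ ≫ _) ≫ k y = v ≫ i₀
      have e : v = pullback.snd (𝒱.f x) (𝒱.f y) ≫ pullback.fst i₀ (k y) :=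
        pullback.condition (f := 𝒱.f x) (g := 𝒱.f y)
      rw [e, Category.assoc, Category.assoc, pullback.condition])
    obtain ⟨d, -, hd⟩ := hdiff x y p₁ p₂
    rw [U_eq_one_of_zero d (hzero _ v), _root_.one_mul] at hd
    have := congrArg CommaMorphism.left (zf_injective hd)
    simpa [p₁, p₂, loc] using this
  let c₀ : Over.mk i₀ ⟶ bcA f ZA := Over.homMk (Scheme.Cover.glueMorphisms 𝒱 loc hcompat) (by
    refine Scheme.Cover.hom_ext 𝒱 _ _ fun x => ?_
    refine (Category.assoc _ _ _).symm.trans ((congrArg (· ≫ (bcA f ZA).hom) (Scheme.Cover.ι_glueMorphisms 𝒱 loc hcompat x)).trans ?_)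
    show (pullback.snd i₀ (k x) ≫ (c x).left) ≫ (bcA f ZA).hom = pullback.fst i₀ (k x) ≫ i₀
    rw [Category.assoc, Over.w (c x), pullback.condition]
    rfl)
  obtain ⟨u, hu⟩ := hunit (isUnit_zf c₀).unit
  have hu' : i₀.appTop (u : Γ(X, ⊤)) = zf c₀ := congrArg Units.val hu
  obtain ⟨cX, hcX⟩ := exists_zf (f := f) (T := Over.mk (𝟙 X)) u.isUnit
  -- correct the local sections
  have hcorr : ∀ x, ∃ d : T x ⟶ bcA f (SekSuwa.A R lam), (d ≫ alphaX lam f) * c x = one' (T x) ≫ cX := by
    intro x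
    letI := algOf f (T x)
    let e := Scheme.ΓSpecIso (CommRingCat.of (B x))
    have hal : ∀ r, e.hom (algebraMap R Γ((T x).left, ⊤) r) = algebraMap R (B x) r := by
      intro r
      show e.hom (((k x) ≫ f).appTop _) = _
      rw [hkf x]
      erw [← CommRingCat.comp_apply, Scheme.ΓSpecIso_naturality, CommRingCat.comp_apply, Iso.inv_hom_id_apply]
      rfl
    obtain ⟨w, hw⟩ : IsUnit (zf (c x)) := isUnit_zf _
    let ku : Γ((T x).left, ⊤) := (k x).appTop (u : Γ(X, ⊤))
    let t : Γ((T x).left, ⊤) := ku * ↑w⁻¹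
    let J : Ideal (B x) := Ideal.span {algebraMap R (B x) lam}
    have hJ : ∀ r ∈ Ideal.span ({lam} : Set R), algebraMap R (B x) r ∈ J := fun r hr => by
      obtain ⟨r', rfl⟩ := Ideal.mem_span_singleton'.1 hr
      rw [map_mul]
      exact Ideal.mul_mem_left _ _ (Ideal.mem_span_singleton_self _)
    let ψ : R ⧸ Ideal.span ({lam} : Set R) →+* B x ⧸ J :=
      Ideal.Quotient.lift _ ((Ideal.Quotient.mk J).comp (algebraMap R (B x))) fun r hr =>
        Ideal.Quotient.eq_zero_iff_mem.2 (hJ r hr)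
    let m : Spec (CommRingCat.of (B x ⧸ J)) ⟶ Spec (CommRingCat.of (B x)) :=
      Spec.map (CommRingCat.ofHom (Ideal.Quotient.mk J))
    let v : Spec (CommRingCat.of (B x ⧸ J)) ⟶ pullback f gl :=
      pullback.lift (m ≫ k x) (Spec.map (CommRingCat.ofHom ψ)) (by
        rw [Category.assoc, hkf x, ← Spec.map_comp, ← Spec.map_comp]
        congr 1)
    let w' : Spec (CommRingCat.of (B x ⧸ J)) ⟶ 𝒱.X x := pullback.lift v m (pullback.lift_fst _ _ _)
    have key : m.appTop ((k x).appTop (u : Γ(X, ⊤))) = m.appTop (zf (c x)) := by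
      have e1 : v ≫ c₀.left = m ≫ (c x).left := by
        have hw1 : w' ≫ 𝒱.f x = v := pullback.lift_fst _ _ _
        have hw2 : w' ≫ pullback.snd i₀ (k x) = m := pullback.lift_snd _ _ _
        exact (congrArg (fun z => z ≫ Scheme.Cover.glueMorphisms 𝒱 loc hcompat) hw1.symm).trans ((Category.assoc _ _ _).trans
          ((congrArg (w' ≫ ·) (Scheme.Cover.ι_glueMorphisms 𝒱 loc hcompat x)).trans
            ((Category.assoc _ _ _).symm.trans (congrArg (· ≫ (c x).left) hw2))))
      have e2 : v.appTop (i₀.appTop (u : Γ(X, ⊤))) = m.appTop ((k x).appTop (u : Γ(X, ⊤))) := by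
        rw [← CommRingCat.comp_apply, ← Scheme.Hom.comp_appTop, ← CommRingCat.comp_apply, ← Scheme.Hom.comp_appTop,
          pullback.lift_fst]
      rw [← e2, hu']
      show v.appTop ((c₀.left ≫ pullback.fst _ _).appTop _) = m.appTop (((c x).left ≫ pullback.fst _ _).appTop _)
      show (v ≫ c₀.left ≫ pullback.fst _ _).appTop _ = (m ≫ (c x).left ≫ pullback.fst _ _).appTop _
      rw [← Category.assoc, e1, Category.assoc]
    obtain ⟨β, hβ⟩ : ∃ β, β * algebraMap R (B x) lam = e.hom t - 1 := by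
      rw [← Ideal.mem_span_singleton']
      refine (Ideal.Quotient.eq).1 ?_
      let μm : Γ((T x).left, ⊤) →+* B x ⧸ J := (Ideal.Quotient.mk J).comp e.hom.hom
      have nat : ∀ z : Γ((T x).left, ⊤), μm z = (Scheme.ΓSpecIso (CommRingCat.of (B x ⧸ J))).hom (m.appTop z) :=
        fun z => (ConcreteCategory.congr_hom (Scheme.ΓSpecIso_naturality (CommRingCat.ofHom (Ideal.Quotient.mk J))) z).symm
      have key' : μm ku = μm (zf (c x)) := by rw [nat, nat]; exact congrArg _ key
      show μm t = Ideal.Quotient.mk J 1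
      rw [map_one, map_mul, key', ← map_mul, ← hw, Units.mul_inv, map_one]
    let β' : Γ((T x).left, ⊤) := e.inv β
    have ht : t = 1 + algebraMap R Γ((T x).left, ⊤) lam * β' := by
      apply e.commRingCatIsoToRingEquiv.injective
      show e.hom t = e.hom _
      have hb : e.hom β' = β := Iso.inv_hom_id_apply e β
      have hm : e.hom (algebraMap R Γ((T x).left, ⊤) lam * β') = algebraMap R (B x) lam * β :=
        (map_mul e.hom.hom _ _).trans (congrArg₂ (· * ·) (hal lam) hb)
      refine Eq.trans ?_ (map_add e.hom.hom 1 _).symm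
      refine Eq.trans ?_ (congrArg₂ (· + ·) (map_one e.hom.hom).symm hm.symm)
      show e.hom t = 1 + algebraMap R (B x) lam * β
      linear_combination -hβ
    obtain ⟨d, hd⟩ := exists_U (lam := lam) (g := f) (X := T x) β' (by
      rw [← ht]
      exact (show IsUnit ku from u.isUnit.map (k x).appTop.hom).mul w⁻¹.isUnit)
    refine ⟨d, zf_injective ?_⟩
    rw [zf_mul, zf_alphaX, hd, ← ht, zf_comp, hcX, ← hw]
    show ku * ↑w⁻¹ * ↑w = _
    rw [Units.inv_mul_cancel_right]
    rfl
  choose d hd using hcorr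
  let s' : ∀ x, T x ⟶ P := fun x => actPt a (d x) (s x)
  have hs' : ∀ x, s' x ≫ q = one' (T x) ≫ actPt b cX σ := by
    intro x
    rw [FlatMor12.TorsorPush.actPt_equivariant _ q hq, ← hc x, ← actPt_mul, hd x, comp_actPt]
  have hglue : ∀ x y, pullback.fst (𝒰.f x) (𝒰.f y) ≫ (s' x).left = pullback.snd (𝒰.f x) (𝒰.f y) ≫ (s' y).left := by
    intro x y
    let S' : Over X := Over.mk (pullback.fst (k x) (k y) ≫ k x)
    let p₁ : S' ⟶ T x := Over.homMk (pullback.fst (k x) (k y)) rfl
    let p₂ : S' ⟶ T y := Over.homMk (pullback.snd (k x) (k y)) pullback.condition.symm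
    obtain ⟨δ, hδ⟩ := (existsUnique_actPt ha.1 (p₁ ≫ s' x) (p₂ ≫ s' y)).exists
    haveI : IsOpenImmersion (k x) := hopen x
    haveI : IsOpenImmersion (k y) := hopen y
    haveI : Flat (S'.hom ≫ f) := by
      show Flat ((pullback.fst (k x) (k y) ≫ k x) ≫ f)
      infer_instance
    have h1 : δ ≫ alphaX lam f = 1 := by
      refine (existsUnique_actPt hb ((p₁ ≫ s' x) ≫ q) ((p₂ ≫ s' y) ≫ q)).unique ?_ ?_
      · rw [← FlatMor12.TorsorPush.actPt_equivariant _ q hq, hδ]
      · rw [actPt_one, Category.assoc, Category.assoc, hs', hs', ← Category.assoc, ← Category.assoc,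
          huniq (p₁ ≫ one' (T x)) (p₂ ≫ one' (T y))]
    have h2 : δ = 1 := ext_U (regular_flat hlam S') (by rw [U_one, ← zf_alphaX, h1, zf_one])
    rw [h2, actPt_one] at hδ
    exact congrArg CommaMorphism.left hδ
  refine ⟨Scheme.Cover.glueMorphisms 𝒰 (fun x => (s' x).left) hglue, Scheme.Cover.hom_ext 𝒰 _ _ fun x => ?_⟩
  rw [← Category.assoc, Scheme.Cover.ι_glueMorphisms]
  exact (Over.w (s' x)).trans (Category.comp_id _).symm

end Groth.Agent.SekSuwa3
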