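import Groth.Prelude.Def_Red
import Mathlib.AlgebraicGeometry.Group.Affine

/-! Points, with values in arbitrary schemes, of base changes `Red.bc g (Spec H)` of affine group schemes over
`Spec R`: they are algebra maps into global functions, multiplication being convolution. -/

set_option linter.style.haveILetI false
set_option autoImplicit false

universe u

open CategoryTheory CategoryTheory.Limits MonoidalCategory CartesianMonoidalCategory MonObj AlgebraicGeometry
open scoped TensorProduct

noncomputable section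

namespace Groth.Agent.SekSuwa3

variable {R : Type u} [CommRing R] {S : Scheme.{u}} (g : S ⟶ Spec (CommRingCat.of R))

/-- Global functions of a scheme over `S` as an `R`-algebra. -/
@[reducible] def algOf (X : Over S) : Algebra R Γ(X.left, ⊤) :=
  ((Scheme.ΓSpecIso (CommRingCat.of R)).inv ≫ (X.hom ≫ g).appTop).hom.toAlgebra

variable {g} {A : Type u} [CommRing A] [Algebra R A]

/-- `S ×_R Spec A`. -/
abbrev bcA (g : S ⟶ Spec (CommRingCat.of R)) (A : Type u) [CommRing A] [Algebra R A] : Over S :=
  Red.bc g ((Spec (CommRingCat.of A)).asOver (Spec (CommRingCat.of R)))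

/-- The second projection of a point. -/
def proj {P : Over (Spec (CommRingCat.of R))} {X : Over S}
    (x : X ⟶ (Over.pullback g).obj P) : Over.mk (X.hom ≫ g) ⟶ P :=
  Over.homMk (x.left ≫ pullback.fst _ _) (by
    simp only [Category.assoc, Over.mk_hom, pullback.condition]
    erw [← Category.assoc, Over.w x])

@[simp] theorem proj_left {P : Over (Spec (CommRingCat.of R))} {X : Over S}
    (x : X ⟶ (Over.pullback g).obj P) : (proj x).left = x.left ≫ pullback.fst _ _ := rfl

theorem proj_map {P Q : Over (Spec (CommRingCat.of R))} {X : Over S}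
    (x : X ⟶ (Over.pullback g).obj P) (m : P ⟶ Q) :
    proj (x ≫ (Over.pullback g).map m) = proj x ≫ m := by
  ext1
  simp
  erw [pullback.lift_fst]

theorem proj_lift_μ {P Q : Over (Spec (CommRingCat.of R))} {X : Over S}
    (x : X ⟶ (Over.pullback g).obj P) (y : X ⟶ (Over.pullback g).obj Q) :
    proj (lift x y ≫ Functor.LaxMonoidal.μ (Over.pullback g) P Q) = lift (proj x) (proj y) := by
  apply CartesianMonoidalCategory.hom_ext
  · rw [← proj_map, Category.assoc, Functor.Monoidal.μ_fst, lift_fst, lift_fst]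
  · rw [← proj_map, Category.assoc, Functor.Monoidal.μ_snd, lift_snd, lift_snd]

/-- The ring map attached to a point. -/
def fn {X : Over S} (x : X ⟶ bcA g A) : A →+* Γ(X.left, ⊤) :=
  ((Scheme.ΓSpecIso (CommRingCat.of A)).inv ≫ (x.left ≫ pullback.fst _ _).appTop).hom

theorem fn_apply {X : Over S} (x : X ⟶ bcA g A) (a : A) :
    fn x a = (x.left ≫ pullback.fst _ _).appTop ((Scheme.ΓSpecIso (CommRingCat.of A)).inv a) := rfl

theorem comp_eq_toSpecΓ {X : Over S} (x : X ⟶ bcA g A) :
    x.left ≫ pullback.fst _ _ = X.left.toSpecΓ ≫ Spec.map (CommRingCat.ofHom (fn x)) := by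
  rw [show CommRingCat.ofHom (fn x) =
      (Scheme.ΓSpecIso (CommRingCat.of A)).inv ≫ (x.left ≫ pullback.fst _ _).appTop from rfl,
    Spec.map_comp]
  erw [← Scheme.toSpecΓ_naturality_assoc]
  erw [← SpecMap_ΓSpecIso_hom, ← Spec.map_comp, Iso.inv_hom_id, Spec.map_id, Category.comp_id]

theorem fn_injective {X : Over S} {x y : X ⟶ bcA g A} (h : fn x = fn y) : x = y := by
  refine Over.OverMorphism.ext ?_
  apply pullback.hom_ext
  · rw [comp_eq_toSpecΓ, comp_eq_toSpecΓ, h]
  · exact (Over.w x).trans (Over.w y).symm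

theorem fn_commutes {X : Over S} (x : X ⟶ bcA g A) (r : R) :
    letI := algOf g X
    fn x (algebraMap R A r) = algebraMap R Γ(X.left, ⊤) r := by
  have e : (x.left ≫ pullback.fst _ _) ≫ Spec.map (CommRingCat.ofHom (algebraMap R A)) = X.hom ≫ g :=
    Over.w (proj x)
  show _ = (X.hom ≫ g).appTop ((Scheme.ΓSpecIso (CommRingCat.of R)).inv r)
  rw [← e, Scheme.Hom.comp_appTop, fn_apply, CommRingCat.comp_apply]
  congr 1
  exact ConcreteCategory.congr_hom (Scheme.ΓSpecIso_inv_naturality (CommRingCat.ofHom (algebraMap R A))) r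

/-- The point as an algebra map. -/
def fnAlg {X : Over S} (x : X ⟶ bcA g A) :
    letI := algOf g X
    A →ₐ[R] Γ(X.left, ⊤) :=
  letI := algOf g X
  { fn x with commutes' := fn_commutes x }

theorem fnAlg_surjective {X : Over S} :
    letI := algOf g X
    ∀ φ : A →ₐ[R] Γ(X.left, ⊤), ∃ x : X ⟶ bcA g A, fnAlg x = φ := by
  letI := algOf g X
  intro φ
  refine ⟨Over.homMk (pullback.lift (X.left.toSpecΓ ≫ Spec.map (CommRingCat.ofHom φ.toRingHom)) X.hom ?_)
    (pullback.lift_snd _ _ _), ?_⟩
  · show (_ ≫ _) ≫ Spec.map (CommRingCat.ofHom (algebraMap R A)) = _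
    rw [Category.assoc, ← Spec.map_comp, show CommRingCat.ofHom (algebraMap R A) ≫ CommRingCat.ofHom φ.toRingHom =
      (Scheme.ΓSpecIso (CommRingCat.of R)).inv ≫ (X.hom ≫ g).appTop from CommRingCat.hom_ext (RingHom.ext φ.commutes),
      Spec.map_comp]
    erw [← Scheme.toSpecΓ_naturality_assoc]
    erw [← SpecMap_ΓSpecIso_hom, ← Spec.map_comp, Iso.inv_hom_id, Spec.map_id, Category.comp_id]
  · ext a
    show fn _ a = _
    rw [fn_apply]
    erw [pullback.lift_fst]
    rw [Scheme.Hom.comp_appTop, Scheme.toSpecΓ_appTop]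
    erw [Scheme.ΓSpecIso_naturality, CommRingCat.comp_apply, Iso.inv_hom_id_apply]
    rfl

theorem fn_comp {X X' : Over S} (f : X' ⟶ X) (x : X ⟶ bcA g A) (a : A) :
    fn (f ≫ x) a = f.left.appTop (fn x a) := rfl

theorem fn_map {B : Type u} [CommRing B] [Algebra R B] {X : Over S} (x : X ⟶ bcA g A) (h : B →ₐ[R] A)
    (m : (Spec (CommRingCat.of A)).asOver (Spec (CommRingCat.of R)) ⟶
      (Spec (CommRingCat.of B)).asOver (Spec (CommRingCat.of R)))
    (hm : m.left = Spec.map (CommRingCat.ofHom h.toRingHom)) (b : B) :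
    fn (A := B) (x ≫ (Over.pullback g).map m) b = fn x (h b) := by
  rw [fn_apply, fn_apply]
  have e : (x ≫ (Over.pullback g).map m).left ≫ pullback.fst _ _ = (x.left ≫ pullback.fst _ _) ≫ m.left :=
    congrArg CommaMorphism.left (proj_map x m)
  erw [e, hm, Scheme.Hom.comp_appTop, CommRingCat.comp_apply]
  congr 1
  exact (ConcreteCategory.congr_hom (Scheme.ΓSpecIso_inv_naturality (CommRingCat.ofHom h.toRingHom)) b).symm

theorem proj_eq {X : Over S} (x : X ⟶ bcA g A) :
    letI := algOf g X
    proj x = (Over.homMk X.left.toSpecΓ (by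
        show X.left.toSpecΓ ≫ Spec.map ((Scheme.ΓSpecIso (CommRingCat.of R)).inv ≫ (X.hom ≫ g).appTop) = X.hom ≫ g
        rw [Spec.map_comp]
        erw [← Scheme.toSpecΓ_naturality_assoc]
        erw [← SpecMap_ΓSpecIso_hom, ← Spec.map_comp, Iso.inv_hom_id, Spec.map_id, Category.comp_id]) :
        Over.mk (X.hom ≫ g) ⟶ (Spec (CommRingCat.of Γ(X.left, ⊤))).asOver (Spec (CommRingCat.of R))) ≫
      (Spec.map (CommRingCat.ofHom (fnAlg x).toRingHom)).asOver (Spec (CommRingCat.of R)) := by
  ext1
  exact comp_eq_toSpecΓ x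

section Hopf

variable {H : Type u} [CommRing H] [HopfAlgebra R H]

theorem proj_mul {X : Over S} (x y : X ⟶ bcA g H) : proj (x * y) = proj x * proj y := by
  rw [Hom.mul_def, Hom.mul_def]
  show proj (lift x y ≫ Functor.LaxMonoidal.μ (Over.pullback g) _ _ ≫ (Over.pullback g).map μ) = _
  rw [← Category.assoc, proj_map, proj_lift_μ]

theorem fnAlg_mul {X : Over S} (x y : X ⟶ bcA g H) :
    letI := algOf g X
    WithConv.toConv (fnAlg (x * y)) = WithConv.toConv (fnAlg x) * WithConv.toConv (fnAlg y) := by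
  letI := algOf g X
  obtain ⟨z, hz⟩ := fnAlg_surjective (g := g) (A := H) ((WithConv.toConv (fnAlg x) * WithConv.toConv (fnAlg y)).ofConv)
  have h : proj z = proj (x * y) := by
    rw [proj_mul, proj_eq x, proj_eq y, proj_eq z, ← MonObj.comp_mul, hz]
    exact congrArg (_ ≫ ·) (map_mul Spec.mapMulEquiv (WithConv.toConv (fnAlg x)) (WithConv.toConv (fnAlg y)))
  have h' : z.left ≫ pullback.fst _ _ = (x * y).left ≫ pullback.fst _ _ := congrArg CommaMorphism.left h
  have h2 : fn z = fn (x * y) := by unfold fn; rw [h']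
  rw [fn_injective h2.symm, hz]

theorem fn_mul {X : Over S} (x y : X ⟶ bcA g H) (a : H) :
    letI := algOf g X
    fn (x * y) a = Algebra.TensorProduct.lmul' R (Algebra.TensorProduct.map (fnAlg x) (fnAlg y)
      (CoalgebraStruct.comul (R := R) a)) := by
  letI := algOf g X
  have h := congrArg (fun f => f.ofConv a) (fnAlg_mul x y)
  simp only [WithConv.ofConv_toConv, AlgHom.convMul_def] at h
  exact h

end Hopf

end Groth.Agent.SekSuwa3
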