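import Mathlib.AlgebraicGeometry.Group.Affine

/-! Points, with values in arbitrary `R`-schemes, of affine `R`-schemes `Spec A`, and convolution. -/

set_option linter.style.haveILetI false
set_option autoImplicit false

universe u

open CategoryTheory CategoryTheory.Limits MonoidalCategory CartesianMonoidalCategory MonObj AlgebraicGeometry
open scoped TensorProduct

noncomputable section

namespace Groth.Agent.SekSuwa3.Abs

variable {R : Type u} [CommRing R] {A : Type u} [CommRing A] [Algebra R A]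

/-- Global functions of an `R`-scheme as an `R`-algebra. -/
@[reducible] def algΓ (T : Over (Spec (CommRingCat.of R))) : Algebra R Γ(T.left, ⊤) :=
  ((Scheme.ΓSpecIso (CommRingCat.of R)).inv ≫ T.hom.appTop).hom.toAlgebra

/-- `Spec A` over `Spec R`. -/
abbrev specO (R : Type u) [CommRing R] (A : Type u) [CommRing A] [Algebra R A] : Over (Spec (CommRingCat.of R)) :=
  (Spec (CommRingCat.of A)).asOver (Spec (CommRingCat.of R))

/-- The ring map attached to a point. -/
def fn {T : Over (Spec (CommRingCat.of R))} (x : T ⟶ specO R A) : A →+* Γ(T.left, ⊤) :=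
  ((Scheme.ΓSpecIso (CommRingCat.of A)).inv ≫ x.left.appTop).hom

theorem fn_apply {T : Over (Spec (CommRingCat.of R))} (x : T ⟶ specO R A) (a : A) :
    fn x a = x.left.appTop ((Scheme.ΓSpecIso (CommRingCat.of A)).inv a) := rfl

theorem comp_eq_toSpecΓ {T : Over (Spec (CommRingCat.of R))} (x : T ⟶ specO R A) :
    x.left = T.left.toSpecΓ ≫ Spec.map (CommRingCat.ofHom (fn x)) := by
  rw [show CommRingCat.ofHom (fn x) = (Scheme.ΓSpecIso (CommRingCat.of A)).inv ≫ x.left.appTop from rfl,
    Spec.map_comp]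
  erw [← Scheme.toSpecΓ_naturality_assoc]
  erw [← SpecMap_ΓSpecIso_hom, ← Spec.map_comp, Iso.inv_hom_id, Spec.map_id, Category.comp_id]

theorem fn_injective {T : Over (Spec (CommRingCat.of R))} {x y : T ⟶ specO R A} (h : fn x = fn y) : x = y := by
  refine Over.OverMorphism.ext ?_
  rw [comp_eq_toSpecΓ, comp_eq_toSpecΓ, h]

theorem fn_commutes {T : Over (Spec (CommRingCat.of R))} (x : T ⟶ specO R A) (r : R) :
    letI := algΓ T
    fn x (algebraMap R A r) = algebraMap R Γ(T.left, ⊤) r := by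
  have e : x.left ≫ Spec.map (CommRingCat.ofHom (algebraMap R A)) = T.hom := Over.w x
  show _ = T.hom.appTop ((Scheme.ΓSpecIso (CommRingCat.of R)).inv r)
  rw [← e, Scheme.Hom.comp_appTop, fn_apply, CommRingCat.comp_apply]
  congr 1
  exact ConcreteCategory.congr_hom (Scheme.ΓSpecIso_inv_naturality (CommRingCat.ofHom (algebraMap R A))) r

/-- The point as an algebra map. -/
def fnAlg {T : Over (Spec (CommRingCat.of R))} (x : T ⟶ specO R A) :
    letI := algΓ T
    A →ₐ[R] Γ(T.left, ⊤) :=
  letI := algΓ T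
  { fn x with commutes' := fn_commutes x }

theorem fnAlg_surjective {T : Over (Spec (CommRingCat.of R))} :
    letI := algΓ T
    ∀ φ : A →ₐ[R] Γ(T.left, ⊤), ∃ x : T ⟶ specO R A, fnAlg x = φ := by
  letI := algΓ T
  intro φ
  refine ⟨Over.homMk (T.left.toSpecΓ ≫ Spec.map (CommRingCat.ofHom φ.toRingHom)) ?_, ?_⟩
  · show (_ ≫ _) ≫ Spec.map (CommRingCat.ofHom (algebraMap R A)) = _
    rw [Category.assoc, ← Spec.map_comp, show CommRingCat.ofHom (algebraMap R A) ≫ CommRingCat.ofHom φ.toRingHom =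
      (Scheme.ΓSpecIso (CommRingCat.of R)).inv ≫ T.hom.appTop from CommRingCat.hom_ext (RingHom.ext φ.commutes),
      Spec.map_comp]
    erw [← Scheme.toSpecΓ_naturality_assoc]
    erw [← SpecMap_ΓSpecIso_hom, ← Spec.map_comp, Iso.inv_hom_id, Spec.map_id, Category.comp_id]
  · ext a
    show fn _ a = _
    rw [fn_apply]
    show (T.left.toSpecΓ ≫ Spec.map (CommRingCat.ofHom φ.toRingHom)).appTop _ = _
    rw [Scheme.Hom.comp_appTop, Scheme.toSpecΓ_appTop]
    erw [Scheme.ΓSpecIso_naturality, CommRingCat.comp_apply, Iso.inv_hom_id_apply]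
    rfl

theorem fn_comp {T T' : Over (Spec (CommRingCat.of R))} (f : T' ⟶ T) (x : T ⟶ specO R A) (a : A) :
    fn (f ≫ x) a = f.left.appTop (fn x a) := rfl

theorem appTop_algebraMap {T T' : Over (Spec (CommRingCat.of R))} (f : T' ⟶ T) (r : R) :
    letI := algΓ T
    letI := algΓ T'
    f.left.appTop (algebraMap R Γ(T.left, ⊤) r) = algebraMap R Γ(T'.left, ⊤) r := by
  show f.left.appTop (T.hom.appTop _) = T'.hom.appTop _
  rw [← Over.w f, Scheme.Hom.comp_appTop, CommRingCat.comp_apply]

theorem fn_specMap {B : Type u} [CommRing B] [Algebra R B] {T : Over (Spec (CommRingCat.of R))} (x : T ⟶ specO R A)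
    (h : B →ₐ[R] A) (m : specO R A ⟶ specO R B) (hm : m.left = Spec.map (CommRingCat.ofHom h.toRingHom)) (b : B) :
    fn (A := B) (x ≫ m) b = fn x (h b) := by
  rw [fn_apply, fn_apply]
  show (x.left ≫ m.left).appTop _ = _
  rw [hm, Scheme.Hom.comp_appTop, CommRingCat.comp_apply]
  congr 1
  exact (ConcreteCategory.congr_hom (Scheme.ΓSpecIso_inv_naturality (CommRingCat.ofHom h.toRingHom)) b).symm

theorem eq_toΓ {T : Over (Spec (CommRingCat.of R))} (x : T ⟶ specO R A) :
    letI := algΓ T
    x = (Over.homMk T.left.toSpecΓ (by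
        show T.left.toSpecΓ ≫ Spec.map ((Scheme.ΓSpecIso (CommRingCat.of R)).inv ≫ T.hom.appTop) = T.hom
        rw [Spec.map_comp]
        erw [← Scheme.toSpecΓ_naturality_assoc]
        erw [← SpecMap_ΓSpecIso_hom, ← Spec.map_comp, Iso.inv_hom_id, Spec.map_id, Category.comp_id]) :
        T ⟶ specO R Γ(T.left, ⊤)) ≫
      (Spec.map (CommRingCat.ofHom (fnAlg x).toRingHom)).asOver (Spec (CommRingCat.of R)) := by
  ext1
  exact comp_eq_toSpecΓ x

theorem fnAlg_mul {H : Type u} [CommRing H] [HopfAlgebra R H] {T : Over (Spec (CommRingCat.of R))}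
    (x y : T ⟶ specO R H) :
    letI := algΓ T
    WithConv.toConv (fnAlg (x * y)) = WithConv.toConv (fnAlg x) * WithConv.toConv (fnAlg y) := by
  letI := algΓ T
  obtain ⟨z, hz⟩ := fnAlg_surjective (A := H) ((WithConv.toConv (fnAlg x) * WithConv.toConv (fnAlg y)).ofConv)
  have h : z = x * y := by
    rw [eq_toΓ x, eq_toΓ y, eq_toΓ z, ← MonObj.comp_mul, hz]
    exact congrArg (_ ≫ ·) (map_mul Spec.mapMulEquiv (WithConv.toConv (fnAlg x)) (WithConv.toConv (fnAlg y)))
  rw [← h, hz]

theorem fn_mul {H : Type u} [CommRing H] [HopfAlgebra R H] {T : Over (Spec (CommRingCat.of R))}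
    (x y : T ⟶ specO R H) (a : H) :
    letI := algΓ T
    fn (x * y) a = Algebra.TensorProduct.lmul' R (Algebra.TensorProduct.map (fnAlg x) (fnAlg y)
      (CoalgebraStruct.comul (R := R) a)) := by
  letI := algΓ T
  have h := congrArg (fun f => f.ofConv a) (fnAlg_mul x y)
  simp only [WithConv.ofConv_toConv, AlgHom.convMul_def] at h
  exact h

end Groth.Agent.SekSuwa3.Abs
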