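import Groth.Prelude.Def_Red
import Groth.Agent.SekSuwa3.SpecPoints
import Groth.Agent.SekSuwa3.GTorsor
import Groth.Agent.CAlgH3.FpqcTorsorLocal
import Groth.Agent.FlatMor12.TorsorPush

/-! Torsors under `μ_N` over a local ring have a coordinate `τ` with `τ^N = a`. -/

set_option autoImplicit false
set_option backward.isDefEq.respectTransparency false
set_option backward.isDefEq.respectTransparency.types false
set_option synthInstance.maxHeartbeats 400000

universe u

open CategoryTheory CategoryTheory.Limits MonoidalCategory CartesianMonoidalCategory MonObj AlgebraicGeometry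
open Groth.Agent.CommAlg4.WittDescMat Groth.Agent.CAlgH3 Groth.Agent.FlatMor12.TorsorPush NonAbLib
open scoped TensorProduct

noncomputable section

namespace Groth.Agent.SekSuwa3.Abs

variable {R : Type u} [CommRing R] {N : ℕ}

local notation "ZA" => MonoidAlgebra R (Multiplicative ℤ)
local notation "NA" => MonoidAlgebra R (Multiplicative (ZMod N))

/-- Coordinate on `μ_N`. -/
def zN {T : Over (Spec (CommRingCat.of R))} (x : T ⟶ specO R NA) : Γ(T.left, ⊤) :=
  fn x (MonoidAlgebra.single (Multiplicative.ofAdd (1 : ZMod N)) 1)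

/-- Coordinate on `𝔾ₘ`. -/
def zZ {T : Over (Spec (CommRingCat.of R))} (x : T ⟶ specO R ZA) : Γ(T.left, ⊤) :=
  fn x (MonoidAlgebra.single (Multiplicative.ofAdd (1 : ℤ)) 1)

theorem zN_comp {T T' : Over (Spec (CommRingCat.of R))} (k : T' ⟶ T) (x : T ⟶ specO R NA) :
    zN (k ≫ x) = k.left.appTop (zN x) := rfl

theorem zZ_comp {T T' : Over (Spec (CommRingCat.of R))} (k : T' ⟶ T) (x : T ⟶ specO R ZA) :
    zZ (k ≫ x) = k.left.appTop (zZ x) := rfl

theorem zN_mul {T : Over (Spec (CommRingCat.of R))} (x y : T ⟶ specO R NA) : zN (x * y) = zN x * zN y := by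
  letI := algΓ T
  rw [zN, fn_mul, MonoidAlgebra.comul_single]
  simp
  rfl

theorem zN_pow [NeZero N] {T : Over (Spec (CommRingCat.of R))} (x : T ⟶ specO R NA) : zN x ^ N = 1 := by
  rw [zN, ← map_pow, MonoidAlgebra.single_pow, one_pow, ← ofAdd_nsmul, nsmul_one, ZMod.natCast_self]
  exact map_one (fn x)

theorem isUnit_zN [NeZero N] {T : Over (Spec (CommRingCat.of R))} (x : T ⟶ specO R NA) : IsUnit (zN x) :=
  IsUnit.of_pow_eq_one (zN_pow x) (NeZero.ne N)

theorem zN_ext [NeZero N] {T : Over (Spec (CommRingCat.of R))} {x y : T ⟶ specO R NA} (e : zN x = zN y) : x = y := by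
  letI := algΓ T
  refine fn_injective (congrArg AlgHom.toRingHom (?_ : fnAlg x = fnAlg y))
  refine MonoidAlgebra.algHom_ext (fun m => ?_) (Subsingleton.elim _ _)
  have hm : (MonoidAlgebra.single m 1 : NA) =
      MonoidAlgebra.single (Multiplicative.ofAdd (1 : ZMod N)) 1 ^ (Multiplicative.toAdd m).val := by
    rw [MonoidAlgebra.single_pow, one_pow, ← ofAdd_nsmul, nsmul_one, ZMod.natCast_zmod_val, ofAdd_toAdd]
  rw [hm, map_pow, map_pow]
  exact congrArg (· ^ _) e

theorem zN_one [NeZero N] {T : Over (Spec (CommRingCat.of R))} : zN (1 : T ⟶ specO R NA) = 1 := by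
  have h := (congrArg zN (_root_.mul_one (1 : T ⟶ specO R NA))).symm.trans (zN_mul _ _)
  exact (isUnit_zN _).mul_eq_left.1 h.symm

theorem exists_zN [NeZero N] {T : Over (Spec (CommRingCat.of R))} {r : Γ(T.left, ⊤)} (hr : r ^ N = 1) :
    ∃ x : T ⟶ specO R NA, zN x = r := by
  letI := algΓ T
  let φ : Multiplicative (ZMod N) →* Γ(T.left, ⊤) :=
    { toFun := fun m => r ^ (Multiplicative.toAdd m).val
      map_one' := by simp
      map_mul' := fun m m' => by
        rw [toAdd_mul, ZMod.val_add, ← pow_eq_pow_mod _ hr, pow_add] }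
  obtain ⟨x, hx⟩ := fnAlg_surjective (A := NA) (MonoidAlgebra.lift R Γ(T.left, ⊤) (Multiplicative (ZMod N)) φ)
  refine ⟨x, (DFunLike.congr_fun hx _).trans ?_⟩
  simp [φ]
  rcases Nat.lt_or_ge 1 N with h | h
  · haveI : Fact (1 < N) := ⟨h⟩
    rw [ZMod.val_one, pow_one]
  · have h1 : N = 1 := by have := NeZero.ne N; omega
    subst h1
    rw [Subsingleton.elim (1 : ZMod 1) 0, ZMod.val_zero, pow_zero]
    rw [pow_one] at hr
    exact hr.symm

theorem zZ_ext {T : Over (Spec (CommRingCat.of R))} {x y : T ⟶ specO R ZA} (e : zZ x = zZ y) : x = y := by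
  letI := algΓ T
  refine fn_injective (congrArg AlgHom.toRingHom
    (((MonoidAlgebra.lift R Γ(T.left, ⊤) _).symm.injective ?_ : fnAlg x = fnAlg y)))
  have key : ((fnAlg x).toMonoidHom.comp (MonoidAlgebra.of R (Multiplicative ℤ))) =
      (fnAlg y).toMonoidHom.comp (MonoidAlgebra.of R (Multiplicative ℤ)) := MonoidHom.ext_mint e
  exact key

theorem isUnit_zZ {T : Over (Spec (CommRingCat.of R))} (x : T ⟶ specO R ZA) : IsUnit (zZ x) :=
  IsUnit.map (fn x) ⟨⟨_, MonoidAlgebra.single (Multiplicative.ofAdd (-1 : ℤ)) 1,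
    by simp [MonoidAlgebra.single_mul_single, ← ofAdd_add, MonoidAlgebra.one_def],
    by simp [MonoidAlgebra.single_mul_single, ← ofAdd_add, MonoidAlgebra.one_def]⟩, rfl⟩

theorem exists_zZ {T : Over (Spec (CommRingCat.of R))} {r : Γ(T.left, ⊤)} (hr : IsUnit r) :
    ∃ x : T ⟶ specO R ZA, zZ x = r := by
  letI := algΓ T
  obtain ⟨x, hx⟩ := fnAlg_surjective (A := ZA)
    (MonoidAlgebra.lift R Γ(T.left, ⊤) (Multiplicative ℤ) ((Units.coeHom _).comp (zpowersHom _ hr.unit)))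
  exact ⟨x, (DFunLike.congr_fun hx _).trans (by simp)⟩

/-- A torsor under `μ_N` over a local ring has a coordinate. -/
theorem exists_coordinate [IsLocalRing R] [NeZero N] {Q : Over (Spec (CommRingCat.of R))}
    {b : AlgGrp.Action (specO R NA) Q} (hb : NonAbH1.IsTorsorFor Scheme.fpqcPrecoverage b) :
    ∃ (τ : Q ⟶ specO R ZA) (a : Rˣ),
      (∀ {T : Over (Spec (CommRingCat.of R))} (g : T ⟶ specO R NA) (y : T ⟶ Q),
        zZ (lift g y ≫ b.act ≫ τ) = zN g * zZ (y ≫ τ)) ∧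
      (∀ {T : Over (Spec (CommRingCat.of R))} (y : T ⟶ Q),
        letI := algΓ T
        zZ (y ≫ τ) ^ N = algebraMap R Γ(T.left, ⊤) a) ∧
      (∀ {T : Over (Spec (CommRingCat.of R))} (y y' : T ⟶ Q), zZ (y ≫ τ) = zZ (y' ≫ τ) → y = y') ∧
      (∀ {T : Over (Spec (CommRingCat.of R))} (v : Γ(T.left, ⊤)),
        letI := algΓ T
        v ^ N = algebraMap R Γ(T.left, ⊤) a → ∃ y : T ⟶ Q, zZ (y ≫ τ) = v) := by
  obtain ⟨B, _, _, hB, ⟨x₀⟩⟩ := FpqcTorsorLocal.exists_algebra_point (𝟙 (Spec (CommRingCat.of R))) hb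
  let VB : Over (Spec (CommRingCat.of R)) := specO R B
  let xB : VB ⟶ Q := Over.homMk x₀.left (by
    show _ = Spec.map (CommRingCat.ofHom (algebraMap R B))
    exact (Over.w x₀).trans (Category.comp_id _))
  -- the cocycle
  let V2 : Over (Spec (CommRingCat.of R)) := specO R (T2 R B)
  let q₁ : V2 ⟶ VB := (Spec.map (CommRingCat.ofHom (Algebra.TensorProduct.includeLeft : B →ₐ[R] T2 R B).toRingHom)).asOver _
  let q₂ : V2 ⟶ VB := (Spec.map (CommRingCat.ofHom (Algebra.TensorProduct.includeRight : B →ₐ[R] T2 R B).toRingHom)).asOver _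
  let et0 : T2 R B := (Scheme.ΓSpecIso (CommRingCat.of (T2 R B))).hom (zN (dv hb.1 (q₁ ≫ xB) (q₂ ≫ xB)))
  have hker : ∀ {T : Over (Spec (CommRingCat.of R))} (x x' : T ⟶ VB),
      letI := algΓ T
      ∃ φ : T2 R B →ₐ[R] Γ(T.left, ⊤), (∀ c, φ (i1 c) = fn x c) ∧ (∀ c, φ (i2 c) = fn x' c) ∧
        φ et0 = zN (dv hb.1 (x ≫ xB) (x' ≫ xB)) := by
    intro T x x'
    letI := algΓ T
    let φ : T2 R B →ₐ[R] Γ(T.left, ⊤) := Algebra.TensorProduct.lift (fnAlg x) (fnAlg x') fun _ _ => Commute.all _ _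
    obtain ⟨k, hk⟩ := fnAlg_surjective (A := T2 R B) φ
    have h1 : k ≫ q₁ = x := fn_injective (RingHom.ext fun c => by
      rw [fn_specMap k (Algebra.TensorProduct.includeLeft : B →ₐ[R] T2 R B) q₁ rfl]
      exact (DFunLike.congr_fun hk _).trans (by simp [φ]; rfl))
    have h2 : k ≫ q₂ = x' := fn_injective (RingHom.ext fun c => by
      rw [fn_specMap k (Algebra.TensorProduct.includeRight : B →ₐ[R] T2 R B) q₂ rfl]
      exact (DFunLike.congr_fun hk _).trans (by simp [φ]; rfl))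
    refine ⟨φ, fun c => by simp [φ, i1]; rfl, fun c => by simp [φ, i2]; rfl, ?_⟩
    have e : zN (k ≫ dv hb.1 (q₁ ≫ xB) (q₂ ≫ xB)) = zN (dv hb.1 (x ≫ xB) (x' ≫ xB)) := by
      rw [comp_dv, ← Category.assoc, ← Category.assoc, h1, h2]
    rw [← e, zN_comp, ← DFunLike.congr_fun hk et0]
    show fn k et0 = _
    rw [fn_apply]
    exact congrArg k.left.appTop (Iso.hom_inv_id_apply (Scheme.ΓSpecIso (CommRingCat.of (T2 R B))) _)
  have het0u : IsUnit et0 := (isUnit_zN (T := V2) (dv hb.1 (q₁ ≫ xB) (q₂ ≫ xB))).map (Scheme.ΓSpecIso (CommRingCat.of (T2 R B))).hom.hom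
  have het0 : d12 et0 * d23 et0 = d13 et0 := by
    let V3 : Over (Spec (CommRingCat.of R)) := specO R (T3 R B)
    letI := algΓ V3
    let e₃ := Scheme.ΓSpecIso (CommRingCat.of (T3 R B))
    have hid : ∀ c, fn (𝟙 V3) c = e₃.inv c := fun c => by
      rw [fn_apply]
      simp
      rfl
    let mk : (B →ₐ[R] T3 R B) → (V3 ⟶ VB) := fun f => (Spec.map (CommRingCat.ofHom f.toRingHom)).asOver _
    let f₁ : B →ₐ[R] T3 R B := Algebra.TensorProduct.includeLeft
    let f₂ : B →ₐ[R] T3 R B := (Algebra.TensorProduct.includeRight : T2 R B →ₐ[R] T3 R B).comp Algebra.TensorProduct.includeLeft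
    let f₃ : B →ₐ[R] T3 R B := (Algebra.TensorProduct.includeRight : T2 R B →ₐ[R] T3 R B).comp Algebra.TensorProduct.includeRight
    have hmk : ∀ (f : B →ₐ[R] T3 R B) c, fn (mk f) c = e₃.inv (f c) := fun f c => by
      rw [← Category.id_comp (mk f), fn_specMap (𝟙 V3) f (mk f) rfl, hid]
    have hd : ∀ (d : T2 R B →+* T3 R B) (f f' : B →ₐ[R] T3 R B), (∀ c, d (i1 c) = f c) → (∀ c, d (i2 c) = f' c) →
        e₃.inv (d et0) = zN (dv hb.1 (mk f ≫ xB) (mk f' ≫ xB)) := by
      intro d f f' h1 h2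
      obtain ⟨φ, hφ1, hφ2, hφ⟩ := hker (mk f) (mk f')
      rw [← hφ]
      have : (e₃.inv.hom.comp d) = φ.toRingHom := by
        apply Algebra.TensorProduct.ringHom_ext
        · ext c
          exact (congrArg e₃.inv (h1 c)).trans ((hmk f c).symm.trans (hφ1 c).symm)
        · ext c
          exact (congrArg e₃.inv (h2 c)).trans ((hmk f' c).symm.trans (hφ2 c).symm)
      exact RingHom.congr_fun this et0
    have h12 := hd d12 f₁ f₂ (fun c => d12_tmul c 1) (fun c => d12_tmul 1 c)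
    have h23 := hd d23 f₂ f₃ (fun c => d23_apply _) (fun c => d23_apply _)
    have h13 := hd d13 f₁ f₃ (fun c => d13_tmul c 1) (fun c => d13_tmul 1 c)
    apply e₃.symm.commRingCatIsoToRingEquiv.injective
    show e₃.inv _ = e₃.inv _
    rw [map_mul, h12, h23, h13, ← zN_mul, mul_comm, dv_trans hb.1 (mk f₁ ≫ xB) (mk f₂ ≫ xB) (mk f₃ ≫ xB)]
  obtain ⟨f, hf, c, y, hy, hc⟩ := EtPicAlg.exists_local_primitive het0u.unit (by simpa using het0)
    (IsLocalRing.maximalIdeal R) (IsLocalRing.maximalIdeal.isMaximal R).ne_top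
  have hcu : IsUnit c := isUnit_of_mul_isUnit_left (hy ▸ (IsLocalRing.notMem_maximalIdeal.1 hf).map (algebraMap R B))
  rw [IsUnit.unit_spec] at hc
  have het0N : et0 ^ N = 1 := by
    show (Scheme.ΓSpecIso (CommRingCat.of (T2 R B))).hom _ ^ N = 1
    rw [← map_pow, zN_pow, map_one]
  obtain ⟨a, z, ha⟩ := exists_congr_of_diff (0 : R) (c ^ N) (0 : T2 R B) (by
    rw [zero_smul, sub_eq_zero, map_pow, map_pow, ← hc, mul_pow, het0N, _root_.mul_one])
  rw [zero_smul, add_zero] at ha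
  have hau : IsUnit a := by
    by_contra hcon
    obtain ⟨P, hP⟩ := PrimeSpectrum.comap_surjective_of_faithfullyFlat (A := R) (B := B)
      ⟨IsLocalRing.maximalIdeal R, inferInstance⟩
    refine P.isPrime.ne_top (Ideal.eq_top_of_isUnit_mem _ ?_ (ha ▸ hcu.pow N))
    have : a ∈ (PrimeSpectrum.comap (algebraMap R B) P).asIdeal := by rw [hP]; exact hcon
    exact this
  -- the coordinate
  let π : Spec (CommRingCat.of B) ⟶ Spec (CommRingCat.of R) := VB.hom
  haveI : Flat π := by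
    show Flat (Spec.map (CommRingCat.ofHom (algebraMap R B)))
    rw [Flat.SpecMap_iff]
    exact RingHom.flat_algebraMap_iff.mpr inferInstance
  haveI : Surjective π := ⟨fun p => PrimeSpectrum.comap_surjective_of_faithfullyFlat (A := R) (B := B) p⟩
  haveI : QuasiCompact π := inferInstanceAs (QuasiCompact (Spec.map (CommRingCat.ofHom (algebraMap R B))))
  have hcov : Presieve.ofArrows (fun _ : PUnit.{1} => Spec (CommRingCat.of B)) (fun _ => π) ∈
      Scheme.fpqcPrecoverage (Spec (CommRingCat.of R)) := by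
    rw [Presieve.ofArrows_pUnit]; exact π.singleton_mem_fpqcPrecoverage
  have hindep : ∀ {T : Over (Spec (CommRingCat.of R))} (x x' : T ⟶ VB) (w : T ⟶ Q),
      zN (dv hb.1 (x ≫ xB) w) * fn x c = zN (dv hb.1 (x' ≫ xB) w) * fn x' c := by
    intro T x x' w
    letI := algΓ T
    obtain ⟨φ, h1, h2, h3⟩ := hker x x'
    rw [dv_trans hb.1 (x ≫ xB) (x' ≫ xB) w, zN_mul, ← h3, ← h1, ← h2, _root_.mul_assoc]
    congr 1
    rw [mul_comm, ← map_mul, hc]
  choose Φ hΦ using fun (T : Over (Spec (CommRingCat.of R))) (x : T ⟶ VB) (w : T ⟶ Q) =>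
    exists_zZ (R := R) (T := T) ((isUnit_zN (dv hb.1 (x ≫ xB) w)).mul (hcu.map (fn x)))
  obtain ⟨τ, hτ⟩ := exists_glue hcov (Y := Q) (Z := specO R ZA) (fun {T} _ x w => Φ T x w)
    (fun k _ x w => zZ_ext (by
      rw [zZ_comp, hΦ, hΦ, map_mul, ← zN_comp, comp_dv, fn_comp, Category.assoc]))
    (fun _ _ x x' w => zZ_ext (by rw [hΦ, hΦ, hindep x x' w]))
  have hτv : ∀ {T : Over (Spec (CommRingCat.of R))} (x : T ⟶ VB) (w : T ⟶ Q),
      zZ (w ≫ τ) = zN (dv hb.1 (x ≫ xB) w) * fn x c := fun x w => by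
    rw [hτ _ PUnit.unit x w]; exact hΦ _ x w
  have hact : ∀ {T : Over (Spec (CommRingCat.of R))} (g : T ⟶ specO R NA) (w : T ⟶ Q),
      zZ (lift g w ≫ b.act ≫ τ) = zN g * zZ (w ≫ τ) := by
    intro T g w
    obtain ⟨m, hm⟩ := exists_zZ (R := R) (T := T) ((isUnit_zN g).mul (isUnit_zZ (w ≫ τ)))
    rw [← hm]
    congr 1
    refine ext_local hcov fun T' _ x k => zZ_ext ?_
    rw [zZ_comp k m, hm, map_mul, ← zN_comp, ← zZ_comp, ← Category.assoc (lift g w),
      ← Category.assoc k (lift g w ≫ b.act), ← Category.assoc k w τ, hτv x, hτv x,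
      show k ≫ lift g w ≫ b.act = actPt b (k ≫ g) (k ≫ w) by rw [actPt, ← comp_lift, Category.assoc],
      dv_actPt, zN_mul]
    ring
  have hinj : ∀ {T : Over (Spec (CommRingCat.of R))} (w w' : T ⟶ Q), zZ (w ≫ τ) = zZ (w' ≫ τ) → w = w' := by
    intro T w w' he
    have e := hact (dv hb.1 w w') w
    rw [← Category.assoc, show lift (dv hb.1 w w') w ≫ b.act = w' from actPt_dv hb.1 w w', ← he] at e
    have h1 : dv hb.1 w w' = 1 := zN_ext (((isUnit_zZ _).mul_eq_right.1 e.symm).trans zN_one.symm)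
    exact (actPt_one b w).symm.trans ((congrArg (fun t => actPt b t w) h1.symm).trans (actPt_dv hb.1 w w'))
  refine ⟨τ, hau.unit, fun g w => hact g w, fun {T} w => ?_, fun w w' => hinj w w', fun {T} v => ?_⟩
  · letI := algΓ T
    obtain ⟨m, hm⟩ := exists_zZ (R := R) (T := T) ((hau.map (algebraMap R Γ(T.left, ⊤))))
    obtain ⟨m', hm'⟩ := exists_zZ (R := R) (T := T) ((isUnit_zZ (w ≫ τ)).pow N)
    rw [IsUnit.unit_spec, ← hm, ← hm']
    congr 1
    refine ext_local hcov fun T' _ x k => zZ_ext ?_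
    letI := algΓ T'
    rw [zZ_comp k, hm', zZ_comp k m, hm, map_pow, ← zZ_comp, ← Category.assoc, hτv x, mul_pow, zN_pow,
      _root_.one_mul, ← map_pow, ha, fn_commutes, appTop_algebraMap]
  · letI := algΓ T
    intro hv
    rw [IsUnit.unit_spec] at hv
    have hvu : IsUnit v := (isUnit_pow_iff (NeZero.ne N)).1 (hv ▸ hau.map _)
    have hex : ∀ (T' : Over (Spec (CommRingCat.of R))) (x : T' ⟶ VB) (k : T' ⟶ T),
        ∃ w : T' ⟶ Q, zZ (w ≫ τ) = k.left.appTop v := by
      intro T' x k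
      letI := algΓ T'
      obtain ⟨cu, hcu'⟩ := hcu.map (fn x)
      obtain ⟨g, hg⟩ := exists_zN (R := R) (N := N) (T := T') (r := k.left.appTop v * ↑cu⁻¹) (by
        rw [mul_pow, ← map_pow, hv, appTop_algebraMap, ← fn_commutes x, ← ha, map_pow, ← hcu', ← mul_pow,
          Units.mul_inv, one_pow])
      refine ⟨actPt b g (x ≫ xB), ?_⟩
      rw [show actPt b g (x ≫ xB) ≫ τ = lift g (x ≫ xB) ≫ b.act ≫ τ from Category.assoc _ _ _, hact, hg, hτv x,
        dv_self, zN_one, _root_.one_mul, ← hcu', Units.inv_mul_cancel_right]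
    choose W hW using hex
    obtain ⟨r, hr⟩ := exists_glue hcov (Y := T) (Z := Q) (fun {T'} _ x k => W T' x k)
      (fun l _ x k => hinj _ _ (by rw [Category.assoc, zZ_comp, hW, hW, Over.comp_left, Scheme.Hom.comp_appTop]; rfl))
      (fun _ _ x x' k => hinj _ _ (by rw [hW, hW]))
    refine ⟨r, ?_⟩
    obtain ⟨m, hm⟩ := exists_zZ (R := R) hvu
    rw [← hm]
    congr 1
    refine ext_local hcov fun T' _ x k => zZ_ext ?_
    rw [zZ_comp k m, hm, ← Category.assoc, hr _ PUnit.unit x k, hW]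

end Groth.Agent.SekSuwa3.Abs
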