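import Groth.Prelude.Def_SekSuwa2
import Mathlib.FieldTheory.Perfect
import Mathlib.RingTheory.DiscreteValuationRing.Basic
import Mathlib.RingTheory.Flat.TorsionFree
import Mathlib.RingTheory.Nilpotent.Defs
import Mathlib.RingTheory.LocalRing.ResidueField.Basic

/-! Units that are `N`th powers modulo `λ^N` in a flat algebra with reduced special fibre. -/

set_option autoImplicit false

universe u v

open Polynomial

noncomputable section

namespace Groth.Agent.SekSuwa3

open SekSuwa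

variable {R : Type u} [CommRing R]

/-- The middle terms of `(1 + λX)^N` are divisible by `λ^N`. -/
theorem pow_dvd_choose_mul {lam : R} {N : ℕ} (h : DivCond lam N) {m : ℕ} (hm : m ≠ 0) :
    lam ^ N ∣ (N.choose m : R) * lam ^ m := by
  refine ⟨(psiPoly lam N h).coeff m, ?_⟩
  have e : ((1 + C lam * X : R[X]) ^ N - 1).coeff m = lam ^ N * (psiPoly lam N h).coeff m := by
    rw [← psiPoly_spec h, coeff_C_mul]
  have e2 : (1 + C lam * X : R[X]) ^ N = ((1 + X) ^ N : R[X]).comp (C lam * X) := by simp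
  rw [coeff_sub, e2, comp_C_mul_X_coeff, coeff_one_add_X_pow, coeff_one, if_neg hm, sub_zero] at e
  exact e

variable {A : Type v} [CommRing A] [Algebra R A]

/-- `(a + λw)^N ≡ a^N` modulo `λ^N`. -/
theorem pow_congr {lam : R} {N : ℕ} (h : DivCond lam N) (a w : A) :
    algebraMap R A (lam ^ N) ∣ (a + algebraMap R A lam * w) ^ N - a ^ N := by
  rw [add_pow, ← Finset.sum_erase_add _ _ (Finset.self_mem_range_succ N), Nat.choose_self, Nat.sub_self,
    pow_zero, Nat.cast_one, mul_one, mul_one, add_sub_cancel_right]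
  refine Finset.dvd_sum fun i hi => ?_
  obtain ⟨hiN, hi'⟩ := Finset.mem_erase.1 hi
  have hi2 : i ≤ N := Nat.lt_succ_iff.1 (Finset.mem_range.1 hi')
  obtain ⟨c, hc⟩ := pow_dvd_choose_mul h (m := N - i) (by omega)
  refine ⟨algebraMap R A c * a ^ i * w ^ (N - i), ?_⟩
  have := congrArg (algebraMap R A) hc
  rw [map_mul, map_natCast, map_mul, Nat.choose_symm hi2, map_pow] at this
  rw [mul_pow]
  linear_combination (a ^ i * w ^ (N - i)) * this

/-- An improvement of the divisibility for smaller powers of a uniformiser. -/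
theorem pow_uniformizer [IsDomain R] {lam π : R} (hπ : π ≠ 0) {e : ℕ} (u : Rˣ) (hlam : lam = u * π ^ e) {N : ℕ}
    (h : DivCond lam N) {i : ℕ} (hie : i < e) (hN : 0 < N) (y : A) :
    ∃ z : A, (1 + algebraMap R A π ^ i * y) ^ N - 1 = algebraMap R A π ^ (i * N) * (y ^ N + algebraMap R A π * z) := by
  suffices algebraMap R A π ^ (i * N + 1) ∣
      (1 + algebraMap R A π ^ i * y) ^ N - 1 - algebraMap R A π ^ (i * N) * y ^ N by
    obtain ⟨z, hz⟩ := this
    exact ⟨z, by rw [pow_succ] at hz; linear_combination hz⟩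
  rw [add_comm (1 : A), add_pow, ← Finset.sum_erase_add _ _ (Finset.self_mem_range_succ N), Nat.choose_self, Nat.sub_self,
    pow_zero, Nat.cast_one, mul_one, mul_one]
  have h0 : 0 ∈ (Finset.range (N + 1)).erase N := by simp; omega
  rw [← Finset.sum_erase_add _ _ h0, pow_zero, one_mul, Nat.choose_zero_right, Nat.cast_one, mul_one, one_pow,
    mul_pow, ← pow_mul,
    show ∀ s t : A, s + 1 + t - 1 - t = s from fun s t => by ring]
  refine Finset.dvd_sum fun m hm => ?_
  simp only [Finset.mem_erase, Finset.mem_range] at hm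
  obtain ⟨c, hc⟩ := pow_dvd_choose_mul h (m := m) hm.1
  -- the binomial coefficient
  have hch : π ^ (e * (N - m)) ∣ (N.choose m : R) := by
    refine ⟨c * (u : R) ^ (N - m), mul_right_cancel₀ (b := lam ^ m) ?_ ?_⟩
    · rw [hlam]; exact pow_ne_zero _ (mul_ne_zero u.ne_zero (pow_ne_zero _ hπ))
    · rw [hc, hlam, show N = N - m + m by omega]
      simp only [Nat.add_sub_cancel, mul_pow, ← pow_mul, pow_add, mul_add]
      ring
  obtain ⟨c', hc'⟩ := hch
  have hc2 := congrArg (algebraMap R A) hc'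
  rw [map_natCast, map_mul, map_pow] at hc2
  have hexp : i * N + 1 ≤ i * m + e * (N - m) := by
    have h1 : i + 1 ≤ e := hie
    have h2 : 1 ≤ N - m := by omega
    have h3 : i * N = i * m + i * (N - m) := by rw [← mul_add, Nat.add_sub_cancel' (by omega)]
    have h4 := Nat.mul_le_mul_right (N - m) h1
    rw [add_mul, one_mul] at h4
    omega
  refine dvd_trans (pow_dvd_pow _ hexp) ⟨y ^ m * algebraMap R A c', ?_⟩
  rw [hc2, mul_pow, one_pow, pow_add, ← pow_mul]
  ring

/-- A unit of a DVR with perfect residue field which is an `N`th power modulo `λ^N` in a flat algebra with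
nonempty reduced special fibre is one in the ring. -/
theorem exists_unit_approx [IsDomain R] [IsDiscreteValuationRing R] [CharZero R] (p : ℕ) [Fact p.Prime]
    [CharP (IsLocalRing.ResidueField R) p] [PerfectField (IsLocalRing.ResidueField R)] (n : ℕ) (hn : 0 < n)
    (lam : R) (h : DivCond lam (p ^ n)) [Module.Flat R A]
    (hne : (IsLocalRing.maximalIdeal R).map (algebraMap R A) ≠ ⊤)
    (hred : IsReduced (A ⧸ (IsLocalRing.maximalIdeal R).map (algebraMap R A)))
    (a : Rˣ) (w : A) (hw : algebraMap R A (lam ^ p ^ n) ∣ w ^ p ^ n - algebraMap R A a) :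
    ∃ (w₀ : Rˣ) (b : R), (a : R) = (w₀ : R) ^ p ^ n * (1 + lam ^ p ^ n * b) := by
  classical
  have hp : p.Prime := Fact.out
  set N := p ^ n with hNdef
  have hN : 0 < N := pow_pos hp.pos n
  obtain ⟨π, hπ⟩ := IsDiscreteValuationRing.exists_irreducible R
  have hπ0 : π ≠ 0 := hπ.ne_zero
  have hlam : lam ≠ 0 := nonZeroDivisors.ne_zero h.nzd
  obtain ⟨e, u, hlamu⟩ := IsDiscreteValuationRing.eq_unit_mul_pow_irreducible hlam hπ
  set πA := algebraMap R A π with hπA
  have hmax : IsLocalRing.maximalIdeal R = Ideal.span {π} := hπ.maximalIdeal_eq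
  rw [hmax, Ideal.map_span, Set.image_singleton, ← hπA] at hne hred
  have hmk : ∀ x : A, πA ∣ x ↔ Ideal.Quotient.mk (Ideal.span {πA}) x = 0 := fun x => by
    rw [Ideal.Quotient.eq_zero_iff_mem, Ideal.mem_span_singleton]
  have hreg : ∀ (k : ℕ) (x : A), πA ^ (k + 1) ∣ πA ^ k * x → πA ∣ x := by
    intro k x ⟨z, hz⟩
    refine ⟨z, Module.Flat.isSMulRegular_of_nonZeroDivisors (M := A)
      (mem_nonZeroDivisors_of_ne_zero (pow_ne_zero k hπ0)) ?_⟩
    show π ^ k • x = π ^ k • (πA * z)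
    rw [Algebra.smul_def, Algebra.smul_def, map_pow, hz, pow_succ, mul_assoc]
  have hunit : ∀ x : R, IsUnit x → ¬ πA ∣ algebraMap R A x := fun x hx ⟨z, hz⟩ => hne <| by
    rw [Ideal.eq_top_iff_one, Ideal.mem_span_singleton]
    exact ⟨z * algebraMap R A ↑hx.unit⁻¹, by rw [← mul_assoc, ← hz, ← map_mul, hx.mul_val_inv, map_one]⟩
  have hroot : ∀ x : R, ∃ t : R, π ∣ x - t ^ N := by
    intro x
    haveI : ExpChar (IsLocalRing.ResidueField R) p := ExpChar.prime hp
    obtain ⟨t, ht⟩ := (bijective_iterateFrobenius (IsLocalRing.ResidueField R) p n).2 (IsLocalRing.residue R x)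
    obtain ⟨t, rfl⟩ := IsLocalRing.residue_surjective t
    refine ⟨t, Ideal.mem_span_singleton.1 (hmax ▸ ?_)⟩
    rw [← IsLocalRing.residue_eq_zero_iff, map_sub, map_pow, ← ht, iterateFrobenius_def, sub_self]
  suffices ∀ j, j ≤ e * N → ∃ w₀ : Rˣ, π ^ j ∣ (a : R) - (w₀ : R) ^ N by
    obtain ⟨w₀, c, hc⟩ := this (e * N) le_rfl
    refine ⟨w₀, c * ↑(u⁻¹ : Rˣ) ^ N * ↑(w₀⁻¹ : Rˣ) ^ N, ?_⟩
    have h1 : (u : R) ^ N * ↑(u⁻¹ : Rˣ) ^ N = 1 := by rw [← mul_pow, Units.mul_inv, one_pow]
    have h2 : (w₀ : R) ^ N * ↑(w₀⁻¹ : Rˣ) ^ N = 1 := by rw [← mul_pow, Units.mul_inv, one_pow]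
    rw [hlamu, mul_pow, ← pow_mul]
    linear_combination hc - (π ^ (e * N) * c * ((w₀ : R) ^ N * ↑(w₀⁻¹ : Rˣ) ^ N)) * h1 - (π ^ (e * N) * c) * h2
  intro j
  induction j with
  | zero => intro; exact ⟨1, by simp⟩
  | succ j ih =>
    intro hj
    obtain ⟨w₀, x, hx⟩ := ih (Nat.le_of_succ_le hj)
    by_cases hxπ : π ∣ x
    · exact ⟨w₀, by rw [hx, pow_succ]; exact mul_dvd_mul_left _ hxπ⟩
    rcases Nat.eq_zero_or_pos j with hj0 | hj0
    · subst hj0
      obtain ⟨t, ht⟩ := hroot a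
      have htu : IsUnit t := by
        by_contra hc
        have h1 : π ∣ t := by
          rw [← Ideal.mem_span_singleton, ← hmax]; exact hc
        exact hπ.not_isUnit (isUnit_of_dvd_unit (by
          have := dvd_add ht (dvd_pow h1 hN.ne'); rwa [sub_add_cancel] at this) a.isUnit)
      exact ⟨htu.unit, by simpa using ht⟩
    have hxu : IsUnit x := by
      by_contra hc
      exact hxπ (by rw [← Ideal.mem_span_singleton, ← hmax]; exact hc)
    -- normalised unit
    let x' : R := x * ↑(w₀⁻¹ : Rˣ) ^ N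
    have hx'u : IsUnit x' := hxu.mul ((w₀⁻¹).isUnit.pow N)
    let w₁ : A := w * algebraMap R A ↑(w₀⁻¹ : Rˣ)
    have ha : (a : R) * ↑(w₀⁻¹ : Rˣ) ^ N = 1 + π ^ j * x' := by
      have h2 : (w₀ : R) ^ N * ↑(w₀⁻¹ : Rˣ) ^ N = 1 := by rw [← mul_pow, Units.mul_inv, one_pow]
      linear_combination (↑(w₀⁻¹ : Rˣ) ^ N) * hx + h2
    have hw₁ : πA ^ (j + 1) ∣ w₁ ^ N - 1 - πA ^ j * algebraMap R A x' := by
      obtain ⟨z, hz⟩ := hw
      refine dvd_trans (pow_dvd_pow _ hj) ⟨algebraMap R A (↑u ^ N) * z * algebraMap R A (↑(w₀⁻¹ : Rˣ) ^ N), ?_⟩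
      have hcast := congrArg (algebraMap R A) ha
      rw [hlamu] at hz
      simp only [map_mul, map_add, map_one, map_pow] at hcast hz ⊢
      rw [mul_pow] at hz
      simp only [w₁, mul_pow, ← hπA] at hcast hz ⊢
      rw [← pow_mul] at hz
      linear_combination (algebraMap R A ↑(w₀⁻¹ : Rˣ) ^ N) * hz + hcast
    have h1 : πA ∣ w₁ - 1 := by
      rw [hmk]
      haveI := hred
      haveI : Nontrivial (A ⧸ Ideal.span {πA}) := Ideal.Quotient.nontrivial_iff.2 hne
      haveI : CharP (A ⧸ Ideal.span {πA}) p := by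
        refine (CharP.charP_iff_prime_eq_zero hp).2 ?_
        have hpR : (p : R) ∈ IsLocalRing.maximalIdeal R := by
          rw [← IsLocalRing.residue_eq_zero_iff, map_natCast, CharP.cast_eq_zero]
        rw [hmax, Ideal.mem_span_singleton] at hpR
        have := map_dvd (algebraMap R A) hpR
        rw [map_natCast, ← hπA, hmk, map_natCast] at this
        exact this
      haveI : ExpChar (A ⧸ Ideal.span {πA}) p := ExpChar.prime hp
      refine IsReduced.eq_zero _ ⟨N, ?_⟩
      rw [map_sub, map_one, hNdef, sub_pow_char_pow, one_pow, ← map_pow, ← map_one (Ideal.Quotient.mk (Ideal.span {πA})),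
        ← map_sub, ← hmk, ← hNdef]
      have h3 : πA ∣ w₁ ^ N - 1 - πA ^ j * algebraMap R A x' := dvd_trans (dvd_pow_self _ (by omega)) hw₁
      have h4 : πA ∣ πA ^ j * algebraMap R A x' := dvd_mul_of_dvd_left (dvd_pow_self _ hj0.ne') _
      simpa using dvd_add h3 h4
    have he : 1 ≤ e := by
      rcases Nat.eq_zero_or_pos e with he | he
      · simp [he] at hj
      · exact he
    have hi : ∃ i, 1 ≤ i ∧ i < e ∧ πA ^ i ∣ w₁ - 1 ∧ ¬ πA ^ (i + 1) ∣ w₁ - 1 := by
      by_contra hc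
      push_neg at hc
      have hall : ∀ i, 1 ≤ i → i ≤ e → πA ^ i ∣ w₁ - 1 := by
        intro i hi1 hie
        induction i with
        | zero => omega
        | succ i ih =>
          rcases Nat.eq_zero_or_pos i with hi0 | hi0
          · subst hi0; simpa using h1
          · exact hc i hi0 (by omega) (ih hi0 (by omega))
      obtain ⟨y, hy⟩ := hall e he le_rfl
      obtain ⟨z, hz⟩ := pow_congr (A := A) h 1 (algebraMap R A ↑(u⁻¹ : Rˣ) * y)
      have e1 : 1 + algebraMap R A lam * (algebraMap R A ↑(u⁻¹ : Rˣ) * y) = w₁ := by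
        rw [← mul_assoc, ← map_mul, hlamu, mul_comm (↑u * π ^ e), ← mul_assoc, Units.inv_mul, one_mul, map_pow, ← hπA]
        linear_combination -hy
      rw [e1, one_pow] at hz
      have h5 : πA ^ (j + 1) ∣ w₁ ^ N - 1 := by
        refine dvd_trans (pow_dvd_pow _ hj) ⟨algebraMap R A (↑u ^ N) * z, ?_⟩
        rw [hz, hlamu, mul_pow, map_mul, ← pow_mul, map_pow, map_pow, ← hπA]
        ring
      exact hunit x' hx'u (hreg j _ (by simpa using dvd_sub h5 hw₁))
    obtain ⟨i, hi1, hie, ⟨y, hy⟩, hyn⟩ := hi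
    have hy' : ¬ πA ∣ y := fun ⟨z, hz⟩ => hyn ⟨z, by rw [hy, hz, pow_succ, mul_assoc]⟩
    obtain ⟨z, hz⟩ := pow_uniformizer (A := A) hπ0 u hlamu h hie hN y
    rw [← hπA, ← hy, add_sub_cancel] at hz
    rcases lt_trichotomy (i * N) j with hlt | heq | hgt
    · exfalso
      have h5 : πA ^ (i * N + 1) ∣ w₁ ^ N - 1 := by
        have h6 : πA ^ (i * N + 1) ∣ πA ^ j * algebraMap R A x' := dvd_mul_of_dvd_left (pow_dvd_pow _ hlt) _
        simpa using dvd_add (dvd_trans (pow_dvd_pow _ (by omega)) hw₁) h6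
      rw [hz] at h5
      have h7 : πA ∣ y ^ N := by
        simpa using dvd_sub (hreg _ _ h5) (dvd_mul_right πA z)
      rw [hmk, map_pow] at h7
      haveI := hred
      exact hy' ((hmk _).2 (IsReduced.eq_zero _ ⟨N, h7⟩))
    · -- improve `w₀`
      obtain ⟨t, ht⟩ := hroot x'
      obtain ⟨z', hz'⟩ := pow_uniformizer (A := R) hπ0 u hlamu h hie hN t
      rw [Algebra.algebraMap_self, RingHom.id_apply, heq] at hz'
      have hu' : IsUnit (1 + π ^ i * t) := by
        by_contra hc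
        have h1' : π ∣ 1 + π ^ i * t := by rw [← Ideal.mem_span_singleton, ← hmax]; exact hc
        have h2' : π ∣ π ^ i * t := dvd_mul_of_dvd_left (dvd_pow_self _ (by omega)) _
        exact hπ.not_isUnit (isUnit_of_dvd_one (by simpa using dvd_sub h1' h2'))
      refine ⟨w₀ * hu'.unit, ?_⟩
      obtain ⟨c, hc⟩ := ht
      refine ⟨(w₀ : R) ^ N * (c - z'), ?_⟩
      have h2 : (w₀ : R) ^ N * ↑(w₀⁻¹ : Rˣ) ^ N = 1 := by rw [← mul_pow, Units.mul_inv, one_pow]
      rw [Units.val_mul, IsUnit.unit_spec, mul_pow, pow_succ]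
      linear_combination (w₀ : R) ^ N * ha - (a : R) * h2 + (w₀ : R) ^ N * π ^ j * hc - (w₀ : R) ^ N * hz'
    · exfalso
      have h5 : πA ^ (j + 1) ∣ w₁ ^ N - 1 := by
        rw [hz]; exact dvd_mul_of_dvd_left (pow_dvd_pow _ hgt) _
      exact hunit x' hx'u (hreg j _ (by simpa using dvd_sub h5 hw₁))

end Groth.Agent.SekSuwa3
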