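import Groth.Agent.SekSuwa3.GKTorsor
import Groth.Agent.SekSuwa3.DiagTorsor
import Groth.Agent.SekSuwa3.GTorsorGlobal
import Groth.Agent.SekSuwa3.UnitApprox
import Groth.Agent.S9821
import Groth.Prelude.Def_ActBC

/-! Descent to the base of a `G_{λ,N}`-torsor whose push-forward to `μ_N` comes from the base. -/

set_option autoImplicit false
set_option backward.isDefEq.respectTransparency false
set_option backward.isDefEq.respectTransparency.types false
set_option synthInstance.maxHeartbeats 400000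
set_option maxHeartbeats 1000000

universe u

open CategoryTheory CategoryTheory.Limits MonoidalCategory CartesianMonoidalCategory MonObj AlgebraicGeometry
open Groth.Agent.CommAlg4.WittDescMat Groth.Agent.CAlgH3 Groth.Agent.CAlgH3.FpqcTorsorLocal
open Groth.Agent.FlatMor12.TorsorPush NonAbLib SekSuwa
open scoped TensorProduct

noncomputable section

namespace Groth.Agent.SekSuwa3

variable {R : Type u} [CommRing R] {X : Scheme.{u}} {f : X ⟶ Spec (CommRingCat.of R)}

/-- A scheme over `X` as a scheme over `Spec R`. -/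
abbrev down (f : X ⟶ Spec (CommRingCat.of R)) (T : Over X) : Over (Spec (CommRingCat.of R)) :=
  Over.mk (T.hom ≫ f)

/-- A morphism over `X` as a morphism over `Spec R`. -/
def downMap {T T' : Over X} (k : T' ⟶ T) : down f T' ⟶ down f T :=
  Over.homMk k.left (by
    show k.left ≫ T.hom ≫ f = T'.hom ≫ f
    rw [← Category.assoc, Over.w k])

theorem proj_comp {W : Over (Spec (CommRingCat.of R))} {T T' : Over X} (k : T' ⟶ T)
    (x : T ⟶ (Over.pullback f).obj W) : proj (k ≫ x) = downMap k ≫ proj x := by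
  ext1
  show (k.left ≫ x.left) ≫ _ = k.left ≫ x.left ≫ _
  rw [Category.assoc]

/-- A point over `X` from a point over `Spec R`. -/
def bcPt {W : Over (Spec (CommRingCat.of R))} {T : Over X} (y : down f T ⟶ W) : T ⟶ (Over.pullback f).obj W :=
  Over.homMk (pullback.lift y.left T.hom (Over.w y)) (pullback.lift_snd _ _ _)

theorem proj_bcPt {W : Over (Spec (CommRingCat.of R))} {T : Over X} (y : down f T ⟶ W) : proj (bcPt y) = y := by
  ext1
  exact pullback.lift_fst _ _ _

theorem proj_injective {W : Over (Spec (CommRingCat.of R))} {T : Over X} {x y : T ⟶ (Over.pullback f).obj W}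
    (h : proj x = proj y) : x = y := by
  refine Over.OverMorphism.ext (pullback.hom_ext ?_ ?_)
  · exact congrArg CommaMorphism.left h
  · exact (Over.w x).trans (Over.w y).symm

theorem proj_bc_act {G W : Over (Spec (CommRingCat.of R))} [GrpObj G] (b : AlgGrp.Action G W) {T : Over X}
    (g : T ⟶ (Over.pullback f).obj G) (z : T ⟶ (Over.pullback f).obj W) :
    proj (lift g z ≫ (b.bc f).act) = lift (proj g) (proj z) ≫ b.act := by
  rw [AlgGrp.Action.bc_act, ← Category.assoc, proj_map, proj_lift_μ]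

open Abs

/-- The descent. -/
theorem exists_descent [IsDomain R] [IsDiscreteValuationRing R] [CharZero R] (p : ℕ) [Fact p.Prime]
    [CharP (IsLocalRing.ResidueField R) p] [PerfectField (IsLocalRing.ResidueField R)]
    (n : ℕ) (hn : 0 < n) (N : ℕ) (hNp : N = p ^ n) (lam : R) (h : DivCond lam N)
    [IsIntegral X] (hX : Pi1.IsNormalScheme X) [Flat f] [Surjective f]
    [IsReduced (pullback f (Spec.map (CommRingCat.ofHom (IsLocalRing.residue R))))]
    {P P' : Over X} (a : AlgGrp.Action (Red.bc f (SekSuwa.GK R lam N h)) P)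
    (hP : NonAbH1.IsTorsorFor Scheme.fppfPrecoverage a)
    (a' : AlgGrp.Action (Red.bc f (Red.diag R (ZMod N))) P')
    (qP : P ⟶ P')
    (hqP : a.act ≫ qP = lift (fst _ P ≫ (Over.pullback f).map (SekSuwa.alphaN R lam N h)) (snd _ P ≫ qP) ≫ a'.act)
    {Q' : Over (Spec (CommRingCat.of R))} (b' : AlgGrp.Action (Red.diag R (ZMod N)) Q')
    (hQ' : NonAbH1.IsTorsorFor Scheme.fppfPrecoverage b')
    (i' : P' ≅ Red.bc f Q')
    (hi' : a'.act ≫ i'.hom = (Red.bc f (Red.diag R (ZMod N)) ◁ i'.hom) ≫ (b'.bc f).act) :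
    ∃ (Q : Over (Spec (CommRingCat.of R))) (b : AlgGrp.Action (SekSuwa.GK R lam N h) Q)
      (i : P ≅ Red.bc f Q), NonAbH1.IsTorsorFor Scheme.fppfPrecoverage b ∧
      a.act ≫ i.hom = (Red.bc f (SekSuwa.GK R lam N h) ◁ i.hom) ≫ (b.bc f).act := by
  classical
  have hN : 0 < N := hNp ▸ pow_pos (Fact.out : p.Prime).pos n
  haveI : NeZero N := ⟨hN.ne'⟩
  have hlam : lam ≠ 0 := nonZeroDivisors.ne_zero h.nzd
  obtain ⟨τ, au, hτact, hτpow, hτinj, hτex⟩ := exists_coordinate (fppf_isTorsorFor_fpqc hQ')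
  have hfp := fppf_isTorsorFor_fpqc hP
  -- coordinate of `α`
  have hzα : ∀ {T : Over X} (g : T ⟶ Red.bc f (SekSuwa.GK R lam N h)),
      letI := algΓ (down f T)
      zN (proj (g ≫ (Over.pullback f).map (SekSuwa.alphaN R lam N h))) =
        1 + algebraMap R Γ((down f T).left, ⊤) lam * Abs.fn (proj g) AK.t := by
    intro T g
    letI := algΓ (down f T)
    rw [proj_map, zN, Abs.fn_specMap (proj g) (alphaNHom R lam N h : MonoidAlgebra R (Multiplicative (ZMod N)) →ₐ[R] AK R lam N h)
      (SekSuwa.alphaN R lam N h) rfl]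
    show Abs.fn (proj g) (alphaNHom R lam N h _) = _
    rw [alphaNHom_single_one, Algebra.smul_def, map_add, map_one, map_mul, Abs.fn_commutes]
  -- value of a point of `P`
  let val' : ∀ {T : Over X} (_ : T ⟶ P), Γ((down f T).left, ⊤) := fun {T} y => zZ (proj (y ≫ qP ≫ i'.hom) ≫ τ)
  have hvact : ∀ {T : Over X} (g : T ⟶ Red.bc f (SekSuwa.GK R lam N h)) (y : T ⟶ P),
      letI := algΓ (down f T)
      val' (actPt a g y) = (1 + algebraMap R Γ((down f T).left, ⊤) lam * Abs.fn (proj g) AK.t) * val' y := by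
    intro T g y
    have e : actPt a g y ≫ qP ≫ i'.hom =
        lift (g ≫ (Over.pullback f).map (SekSuwa.alphaN R lam N h)) (y ≫ qP ≫ i'.hom) ≫ (b'.bc f).act := by
      rw [← Category.assoc, actPt_equivariant _ qP hqP, actPt, Category.assoc, hi', lift_whiskerLeft_assoc,
        Category.assoc]
    show zZ (proj _ ≫ τ) = _
    rw [e, proj_bc_act, Category.assoc, hτact, hzα]
  -- affine charts
  have hchart : ∀ x : X, ∃ (A : Type u) (_ : CommRing A) (_ : IsDomain A) (_ : IsIntegrallyClosed A) (_ : Algebra R A)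
      (j : Spec (CommRingCat.of A) ⟶ X) (B : Type u) (_ : CommRing B) (_ : Algebra A B)
      (xB : Tm j B ⟶ P) (a₀ : A) (w : B), Module.Flat R A ∧ IsOpenImmersion j ∧
        j ≫ f = Spec.map (CommRingCat.ofHom (algebraMap R A)) ∧ x ∈ Set.range j ∧ Module.FaithfullyFlat A B ∧
        val B (val' xB) = algebraMap A B a₀ + algebraMap R A lam • w ∧
        algebraMap R A (lam ^ N) ∣ a₀ ^ N - algebraMap R A au := by
    intro x
    obtain ⟨_, ⟨V, hV, rfl⟩, hxV, -⟩ :=
      X.isBasis_affineOpens.exists_subset_of_mem_open (Set.mem_univ x) isOpen_univ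
    haveI : Nonempty V := ⟨⟨x, hxV⟩⟩
    haveI : IsIntegrallyClosed Γ(X, V) := (Groth.Agent.S9821.result X).1 hX V hV
    obtain ⟨φ, hφ⟩ := Spec.map_surjective (hV.fromSpec ≫ f)
    letI : Algebra R Γ(X, V) := φ.hom.toAlgebra
    have hj : hV.fromSpec ≫ f = Spec.map (CommRingCat.ofHom (algebraMap R Γ(X, V))) := hφ.symm
    haveI : Flat (Spec.map φ) := by rw [hφ]; infer_instance
    haveI : Module.Flat R Γ(X, V) :=
      RingHom.flat_algebraMap_iff.1 ((HasRingHomProperty.Spec_iff (P := @Flat)).1 ‹Flat (Spec.map φ)›)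
    obtain ⟨B, _, _, hB, ⟨xB⟩⟩ := exists_algebra_point hV.fromSpec hfp
    obtain ⟨gam, hgam, -⟩ := exists_cocycle hV.fromSpec B hfp.1 xB
    let l : Γ(X, V) := algebraMap R Γ(X, V) lam
    let wB : B := val B (val' xB)
    have hnat : ∀ {T T' : Over X} (k : T' ⟶ T) (y : T ⟶ P), val' (k ≫ y) = k.left.appTop (val' y) := by
      intro T T' k y
      show zZ (proj ((k ≫ y) ≫ qP ≫ i'.hom) ≫ τ) = _
      rw [Category.assoc, proj_comp, Category.assoc, zZ_comp]
      rfl
    have hmulv : ∀ {C : Type u} [CommRing C] (r s : Γ(Spec (CommRingCat.of C), ⊤)), val C (r * s) = val C r * val C s :=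
      fun r s => map_mul (Scheme.ΓSpecIso _).hom.hom r s
    letI : Algebra R (T2 Γ(X, V) B) := ((algebraMap Γ(X, V) (T2 Γ(X, V) B)).comp (algebraMap R Γ(X, V))).toAlgebra
    haveI : IsScalarTower R Γ(X, V) (T2 Γ(X, V) B) := IsScalarTower.of_algebraMap_eq fun _ => rfl
    let T2T : Over X := Tm hV.fromSpec (T2 Γ(X, V) B)
    let s : T2 Γ(X, V) B := val _ (Abs.fn (proj gam) AK.t : Γ(T2T.left, ⊤))
    have hdiff : i2 wB - i1 wB = l • (s * i1 wB) := by
      have e := congrArg (fun y : T2T ⟶ P => val (T2 Γ(X, V) B) (val' y : Γ(T2T.left, ⊤))) hgam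
      simp only [hvact] at e
      erw [hmulv] at e
      rw [hnat, hnat] at e
      simp only [p1, p2] at e
      erw [val_map, val_map] at e
      letI := algΓ (down f T2T)
      have e1 : val (T2 Γ(X, V) B) ((1 + algebraMap R Γ((down f T2T).left, ⊤) lam * Abs.fn (proj gam) AK.t :
          Γ((down f T2T).left, ⊤))) = 1 + algebraMap R (T2 Γ(X, V) B) lam * s := by
        show (Scheme.ΓSpecIso _).hom.hom _ = _
        rw [map_add, map_one, map_mul]
        congr 2
        exact val_algebraMap (g := f) hj (T2 Γ(X, V) B) lam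
      erw [e1] at e
      rw [Algebra.smul_def, ← IsScalarTower.algebraMap_apply R Γ(X, V) (T2 Γ(X, V) B)]
      linear_combination -e
    obtain ⟨a₀, w, hw⟩ := exists_congr_of_diff l wB _ hdiff
    refine ⟨Γ(X, V), inferInstance, inferInstance, inferInstance, inferInstance, hV.fromSpec, B, inferInstance,
      inferInstance, xB, a₀, w, inferInstance, inferInstance, hj, ?_, hB, hw, ?_⟩
    · exact (Set.ext_iff.1 hV.range_fromSpec x).2 hxV
    -- descend the congruence
    letI : Algebra R B := ((algebraMap Γ(X, V) B).comp (algebraMap R Γ(X, V))).toAlgebra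
    haveI : IsScalarTower R Γ(X, V) B := IsScalarTower.of_algebraMap_eq fun _ => rfl
    have hpow : wB ^ N = algebraMap R B au := by
      refine ((map_pow (Scheme.ΓSpecIso (CommRingCat.of B)).hom.hom (val' xB) N).symm.trans
        (congrArg (Scheme.ΓSpecIso (CommRingCat.of B)).hom.hom (hτpow _))).trans ?_
      exact val_algebraMap (g := f) hj B au
    obtain ⟨z, hz⟩ := pow_congr (A := B) h (algebraMap Γ(X, V) B a₀) w
    rw [show algebraMap Γ(X, V) B a₀ + algebraMap R B lam * w = wB by
      rw [hw, Algebra.smul_def, IsScalarTower.algebraMap_apply R Γ(X, V) B], hpow] at hz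
    have hmem : a₀ ^ N - algebraMap R Γ(X, V) au ∈
        ((Ideal.span {algebraMap R Γ(X, V) (lam ^ N)}).map (algebraMap Γ(X, V) B)).comap (algebraMap Γ(X, V) B) := by
      rw [Ideal.mem_comap, Ideal.map_span, Set.image_singleton, Ideal.mem_span_singleton, map_sub,
        ← IsScalarTower.algebraMap_apply, ← IsScalarTower.algebraMap_apply, map_pow _ a₀ N]
      exact ⟨-z, by linear_combination -hz⟩
    rw [Ideal.comap_map_eq_self_of_faithfullyFlat, Ideal.mem_span_singleton] at hmem
    exact hmem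
  choose A instA instD instN instAl j B instB instBA xB a₀ w hflat hopen hjf hmem hff hxw hcong using hchart
  -- approximate `au`
  obtain ⟨x₁, hx₁⟩ := f.surjective (IsLocalRing.closedPoint R)
  obtain ⟨q₁, hq₁⟩ := hmem x₁
  obtain ⟨w₀, b, hab⟩ : ∃ (w₀ : Rˣ) (b : R), (au : R) = (w₀ : R) ^ N * (1 + lam ^ N * b) := by
    let m : Ideal R := IsLocalRing.maximalIdeal R
    haveI := hflat x₁
    have hq : q₁.asIdeal.comap (algebraMap R (A x₁)) = m := by
      have e : Spec.map (CommRingCat.ofHom (algebraMap R (A x₁))) q₁ = IsLocalRing.closedPoint R := by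
        rw [← hjf x₁, Scheme.Hom.comp_apply, hq₁, hx₁]
      exact congrArg PrimeSpectrum.asIdeal e
    have hne : m.map (algebraMap R (A x₁)) ≠ ⊤ := fun e => q₁.isPrime.ne_top (top_le_iff.1 (e ▸
      Ideal.map_le_iff_le_comap.2 hq.ge))
    have hred : _root_.IsReduced (A x₁ ⧸ m.map (algebraMap R (A x₁))) := by
      haveI := hopen x₁
      let g₀ := Spec.map (CommRingCat.ofHom (algebraMap R (R ⧸ m)))
      haveI : AlgebraicGeometry.IsReduced (pullback f g₀) :=
        ‹AlgebraicGeometry.IsReduced (pullback f (Spec.map (CommRingCat.ofHom (IsLocalRing.residue R))))›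
      let φ₁ : pullback (j x₁ ≫ f) g₀ ⟶ pullback f g₀ :=
        pullback.map _ _ _ _ (j x₁) (𝟙 _) (𝟙 _) (by simp) (by simp)
      haveI : IsOpenImmersion φ₁ := inferInstanceAs (IsOpenImmersion (pullback.map _ _ _ _ (j x₁) (𝟙 _) (𝟙 _) _ _))
      haveI : AlgebraicGeometry.IsReduced (pullback (j x₁ ≫ f) g₀) := isReduced_of_isOpenImmersion φ₁
      let e₁ := pullback.congrHom (f₂ := Spec.map (CommRingCat.ofHom (algebraMap R (A x₁)))) (g₂ := g₀) (hjf x₁) rfl
      haveI : AlgebraicGeometry.IsReduced (pullback (Spec.map (CommRingCat.ofHom (algebraMap R (A x₁)))) g₀) :=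
        isReduced_of_isOpenImmersion e₁.inv
      let e₂ := pullbackSpecIso R (A x₁) (R ⧸ m)
      haveI : AlgebraicGeometry.IsReduced (Spec (CommRingCat.of (A x₁ ⊗[R] (R ⧸ m)))) :=
        isReduced_of_isOpenImmersion e₂.inv
      haveI : _root_.IsReduced (A x₁ ⊗[R] (R ⧸ m)) :=
        isReduced_of_injective (Scheme.ΓSpecIso (CommRingCat.of (A x₁ ⊗[R] (R ⧸ m)))).inv.hom
          (Scheme.ΓSpecIso (CommRingCat.of (A x₁ ⊗[R] (R ⧸ m)))).symm.commRingCatIsoToRingEquiv.injective
      exact isReduced_of_injective (Algebra.TensorProduct.quotIdealMapEquivTensorQuot (A x₁) m).toRingHom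
        (Algebra.TensorProduct.quotIdealMapEquivTensorQuot (A x₁) m).injective
    subst hNp
    exact exists_unit_approx p n hn lam h hne hred au (a₀ x₁) (hcong x₁)
  have hb : IsUnit (1 + lam ^ N * b) := isUnit_of_mul_isUnit_right (hab ▸ au.isUnit)
  obtain ⟨bQ, hbQ, hbQf⟩ := exists_fib_torsor (h := h) (b := b) hN hb
  let Q := fib lam N h b
  -- values on the fibre
  let rt : ∀ {T : Over X} (_ : T ⟶ Red.bc f Q), Γ((down f T).left, ⊤) := fun {T} z =>
    Abs.fn (proj z) (AdjoinRoot.root (fibPoly lam N h b))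
  have hrt : ∀ {T : Over X} (g : T ⟶ Red.bc f (SekSuwa.GK R lam N h)) (z : T ⟶ Red.bc f Q),
      letI := algΓ (down f T)
      rt (actPt (bQ.bc f) g z) = Abs.fn (proj g) AK.t + rt z +
        algebraMap R Γ((down f T).left, ⊤) lam * Abs.fn (proj g) AK.t * rt z := by
    intro T g z
    show Abs.fn (proj (lift g z ≫ _)) _ = _
    rw [proj_bc_act, hbQf]
  -- corrected points
  have hz : ∀ x : X, ∃ zB : Tm (j x) (B x) ⟶ Red.bc f Q,
      letI := algΓ (down f (Tm (j x) (B x)))
      algebraMap R Γ((down f (Tm (j x) (B x))).left, ⊤) w₀ *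
        (1 + algebraMap R Γ((down f (Tm (j x) (B x))).left, ⊤) lam * rt zB) = val' (xB x) := by
    intro x
    letI := instA x
    letI := instAl x
    letI := instB x
    letI := instBA x
    haveI := hflat x
    haveI := hff x
    haveI := instD x
    haveI := instN x
    let K := FractionRing (A x)
    let iK := algebraMap (A x) K
    let lK : K := iK (algebraMap R (A x) lam)
    have hlK : lK ≠ 0 := by
      intro e
      refine one_ne_zero (α := A x) (Module.Flat.isSMulRegular_of_nonZeroDivisors (M := A x) h.nzd ?_)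
      show lam • (1 : A x) = lam • 0
      rw [smul_zero, Algebra.smul_def, _root_.mul_one]
      exact IsFractionRing.injective (A x) K (e.trans (map_zero iK).symm)
    let v₀ : A x := a₀ x * algebraMap R (A x) ↑(w₀⁻¹)
    obtain ⟨c, hc⟩ := hcong x
    let c' : A x := algebraMap R (A x) b + c * algebraMap R (A x) (↑(w₀⁻¹) ^ N)
    have hv₀ : v₀ ^ N - 1 = algebraMap R (A x) (lam ^ N) * c' := by
      have h2 : algebraMap R (A x) ((w₀ : R) ^ N) * algebraMap R (A x) (↑(w₀⁻¹) ^ N) = 1 := by
        rw [← map_mul, ← mul_pow, Units.mul_inv, one_pow, map_one]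
      have hab' := congrArg (algebraMap R (A x)) hab
      simp only [v₀, c', map_mul, map_add, map_one, map_pow, mul_pow] at hab' hc h2 ⊢
      linear_combination (algebraMap R (A x) ↑(w₀⁻¹) ^ N) * hc + (algebraMap R (A x) ↑(w₀⁻¹) ^ N) * hab' +
        (1 + algebraMap R (A x) lam ^ N * algebraMap R (A x) b) * h2
    let z₀ : K := (iK v₀ - 1) / lK
    have hz₀ : 1 + lK * z₀ = iK v₀ := by
      simp only [z₀]
      rw [mul_div_cancel₀ _ hlK]
      ring
    letI : Algebra R K := (iK.comp (algebraMap R (A x))).toAlgebra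
    have hPz : Polynomial.aeval z₀ (psiPoly lam N h) = iK c' := by
      have e := aeval_psiPoly h z₀
      rw [show algebraMap R K lam = lK from rfl, hz₀, ← map_pow iK v₀, ← map_one iK, ← map_sub, hv₀, map_mul] at e
      exact mul_left_cancel₀ (show algebraMap R K (lam ^ N) ≠ 0 by
        rw [map_pow]; exact pow_ne_zero _ hlK) e
    have hint : IsIntegral (A x) z₀ := by
      refine ⟨(psiPoly lam N h).map (algebraMap R (A x)) - Polynomial.C c', ?_, ?_⟩
      · refine ((SekSuwaKer5.psiPoly_monic R lam N h hN).1.map _).sub_of_left (lt_of_le_of_lt Polynomial.degree_C_le ?_)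
        rw [(SekSuwaKer5.psiPoly_monic R lam N h hN).1.degree_map,
          Polynomial.degree_eq_natDegree (SekSuwaKer5.psiPoly_monic R lam N h hN).1.ne_zero,
          (SekSuwaKer5.psiPoly_monic R lam N h hN).2 inferInstance]
        exact_mod_cast hN
      · rw [Polynomial.eval₂_sub, Polynomial.eval₂_C, Polynomial.eval₂_map]
        exact sub_eq_zero.2 hPz
    obtain ⟨zA, hzA⟩ := IsIntegrallyClosed.isIntegral_iff.1 hint
    have hzA' : 1 + algebraMap R (A x) lam * zA = v₀ :=
      IsFractionRing.injective (A x) K (by rw [map_add, map_one, map_mul, hzA]; exact hz₀)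
    letI : Algebra R (B x) := ((algebraMap (A x) (B x)).comp (algebraMap R (A x))).toAlgebra
    haveI : IsScalarTower R (A x) (B x) := IsScalarTower.of_algebraMap_eq fun _ => rfl
    let zB : B x := algebraMap (A x) (B x) zA + w x * algebraMap R (B x) ↑(w₀⁻¹)
    have hzB : algebraMap R (B x) (w₀ : R) * (1 + algebraMap R (B x) lam * zB) = val (B x) (val' (xB x)) := by
      have h2 : algebraMap R (B x) (w₀ : R) * algebraMap R (B x) ↑(w₀⁻¹) = 1 := by
        rw [← map_mul, Units.mul_inv, map_one]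
      have h3 := congrArg (algebraMap (A x) (B x)) hzA'
      simp only [v₀, map_add, map_one, map_mul, ← IsScalarTower.algebraMap_apply] at h3
      rw [hxw x, Algebra.smul_def, ← IsScalarTower.algebraMap_apply]
      linear_combination (algebraMap R (B x) (w₀ : R)) * h3 +
        (algebraMap (A x) (B x) (a₀ x) + algebraMap R (B x) lam * w x) * h2
    haveI : Module.Flat (A x) (B x) := inferInstance
    haveI : Module.Flat R (B x) := Module.Flat.trans R (A x) (B x)
    have hroot : Polynomial.aeval zB (psiPoly lam N h) = algebraMap R (B x) b := by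
      refine Module.Flat.isSMulRegular_of_nonZeroDivisors (M := B x) h.pow_nzd ?_
      show lam ^ N • _ = lam ^ N • _
      rw [Algebra.smul_def, Algebra.smul_def, aeval_psiPoly]
      have h4 : (algebraMap R (B x) (w₀ : R) * (1 + algebraMap R (B x) lam * zB)) ^ N = algebraMap R (B x) au := by
        rw [hzB]
        refine ((map_pow (Scheme.ΓSpecIso (CommRingCat.of (B x))).hom.hom (val' (xB x)) N).symm.trans
          (congrArg (Scheme.ΓSpecIso (CommRingCat.of (B x))).hom.hom (hτpow _))).trans ?_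
        exact val_algebraMap (g := f) (hjf x) (B x) au
      have hu : IsUnit (algebraMap R (B x) (w₀ : R) ^ N) := (w₀.isUnit.map _).pow N
      refine hu.mul_left_cancel ?_
      rw [hab, map_mul, map_add, map_one, map_mul, map_pow, mul_pow] at h4
      linear_combination h4
    let T := down f (Tm (j x) (B x))
    letI := algΓ T
    let e := Scheme.ΓSpecIso (CommRingCat.of (B x))
    have hal : ∀ r, e.hom (algebraMap R Γ(T.left, ⊤) r) = algebraMap R (B x) r :=
      val_algebraMap (g := f) (hjf x) (B x)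
    let zΓ : Γ(T.left, ⊤) := e.inv zB
    have hzΓ : Polynomial.aeval zΓ (psiPoly lam N h) = algebraMap R Γ(T.left, ⊤) b := by
      let eA : Γ(T.left, ⊤) →ₐ[R] B x := { e.hom.hom with commutes' := hal }
      apply e.commRingCatIsoToRingEquiv.injective
      show eA _ = eA _
      rw [← Polynomial.aeval_algHom_apply, AlgHom.commutes, show eA zΓ = zB from Iso.inv_hom_id_apply e zB, hroot]
    obtain ⟨y, hy⟩ := exists_root (h := h) (b := b) zΓ hzΓ
    refine ⟨bcPt y, ?_⟩
    apply e.commRingCatIsoToRingEquiv.injective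
    show e.hom _ = e.hom _
    have hy' : Abs.fn (proj (bcPt y)) (AdjoinRoot.root (fibPoly lam N h b)) = zΓ := by rw [proj_bcPt]; exact hy
    rw [map_mul, map_add, map_one, map_mul, hal, hal]
    simp only [rt]
    rw [hy', show e.hom zΓ = zB from Iso.inv_hom_id_apply e zB]
    exact hzB
  choose zB hzB using hz
  -- the covering
  let pi : ∀ x : X, Spec (CommRingCat.of (B x)) ⟶ X := fun x =>
    Spec.map (CommRingCat.ofHom (algebraMap (A x) (B x))) ≫ j x
  have hcov : Presieve.ofArrows (fun s : Σ _ : X, PUnit.{1} => Spec (CommRingCat.of (B s.1)))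
      (fun s => pi s.1) ∈ Scheme.fpqcPrecoverage X := by
    refine Precoverage.comp_mem_coverings (σ := fun _ : X => PUnit.{1}) j ?_
      (fun x _ => Spec.map (CommRingCat.ofHom (algebraMap (A x) (B x)))) (fun x => ?_)
    · exact Scheme.zariskiPrecoverage_le_fpqcPrecoverage _
        ((Scheme.ofArrows_mem_precoverage_iff _).2 ⟨fun x => ⟨x, hmem x⟩, hopen⟩)
    · haveI := hff x
      haveI : Flat (Spec.map (CommRingCat.ofHom (algebraMap (A x) (B x)))) := by
        rw [Flat.SpecMap_iff]; exact RingHom.flat_algebraMap_iff.mpr inferInstance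
      haveI : Surjective (Spec.map (CommRingCat.ofHom (algebraMap (A x) (B x)))) :=
        ⟨fun p => PrimeSpectrum.comap_surjective_of_faithfullyFlat (A := A x) (B := B x) p⟩
      rw [Presieve.ofArrows_pUnit]
      exact Scheme.Hom.singleton_mem_fpqcPrecoverage _
  let xs : ∀ s : Σ _ : X, PUnit.{1}, Over.mk (pi s.1) ⟶ P := fun s => xB s.1
  let zs : ∀ s : Σ _ : X, PUnit.{1}, Over.mk (pi s.1) ⟶ Red.bc f Q := fun s => zB s.1
  have hflatpi : ∀ x, Flat (pi x) := fun x => by
    haveI := hff x
    haveI := hopen x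
    haveI : Flat (Spec.map (CommRingCat.ofHom (algebraMap (A x) (B x)))) := by
      rw [Flat.SpecMap_iff]; exact RingHom.flat_algebraMap_iff.mpr inferInstance
    show Flat (Spec.map _ ≫ j x)
    infer_instance
  have hw₀ : ∀ {T : Over X}, letI := algΓ (down f T); IsUnit (algebraMap R Γ((down f T).left, ⊤) (w₀ : R)) :=
    fun {T} => by letI := algΓ (down f T); exact w₀.isUnit.map _
  -- values of corrected points after restriction
  have hzs : ∀ {T : Over X} (s : Σ _ : X, PUnit.{1}) (k : T ⟶ Over.mk (pi s.1)),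
      letI := algΓ (down f T)
      algebraMap R Γ((down f T).left, ⊤) w₀ * (1 + algebraMap R Γ((down f T).left, ⊤) lam * rt (k ≫ zs s)) =
        val' (k ≫ xs s) := by
    intro T s k
    letI := algΓ (down f T)
    letI := algΓ (down f (Tm (j s.1) (B s.1)))
    have e := congrArg (downMap (f := f) k).left.appTop (hzB s.1)
    rw [map_mul, map_add, map_one, map_mul] at e
    erw [appTop_algebraMap (downMap (f := f) k), appTop_algebraMap (downMap (f := f) k)] at e
    refine (Eq.trans ?_ e).trans ?_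
    · show _ = _ * (1 + _ * (downMap (f := f) k).left.appTop (Abs.fn _ _))
      simp only [rt]
      rw [proj_comp]
      rfl
    · show (downMap (f := f) k).left.appTop (zZ (proj (xB s.1 ≫ qP ≫ i'.hom) ≫ τ)) = zZ _
      rw [← zZ_comp, ← Category.assoc, ← proj_comp, Category.assoc]
  -- universal independence
  have hindep₀ : ∀ {T : Over X} (s t : Σ _ : X, PUnit.{1}) (k : T ⟶ Over.mk (pi s.1)) (k' : T ⟶ Over.mk (pi t.1)),
      actPt (bQ.bc f) (dv hP.1 (k ≫ xs s) (k' ≫ xs t)) (k ≫ zs s) = k' ≫ zs t := by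
    intro T s t k k'
    let W : Over X := Over.mk (pi s.1) ⊗ Over.mk (pi t.1)
    suffices actPt (bQ.bc f) (dv hP.1 (fst _ _ ≫ xs s) (snd _ _ ≫ xs t)) (fst _ _ ≫ zs s) =
        (snd _ _ : W ⟶ _) ≫ zs t by
      have e := congrArg (lift k k' ≫ ·) this
      simpa only [comp_actPt, comp_dv, lift_fst_assoc, lift_snd_assoc] using e
    haveI := hflatpi s.1
    haveI := hflatpi t.1
    haveI : Flat (W.hom ≫ f) := by
      show Flat ((pullback.fst (pi s.1) (pi t.1) ≫ pi s.1) ≫ f)
      infer_instance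
    set d := dv hP.1 ((fst _ _ : W ⟶ _) ≫ xs s) (snd _ _ ≫ xs t) with hd
    letI := algΓ (down f W)
    have e := hvact d ((fst _ _ : W ⟶ _) ≫ xs s)
    rw [hd, actPt_dv, ← hd, ← hzs s, ← hzs t] at e
    refine proj_injective (ext_root ?_)
    show rt _ = rt _
    rw [hrt]
    have hreg : IsSMulRegular Γ((down f W).left, ⊤) lam := regular_flat (f := f) hlam W
    refine hreg ?_
    show lam • (_ : Γ((down f W).left, ⊤)) = lam • (_ : Γ((down f W).left, ⊤))
    rw [Algebra.smul_def, Algebra.smul_def]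
    refine (hw₀ (T := W)).mul_left_cancel ?_
    linear_combination -e
  obtain ⟨r, hr⟩ := exists_glue hcov (Y := P) (Z := Red.bc f Q)
    (fun s k y => actPt (bQ.bc f) (dv hP.1 (k ≫ xs s) y) (k ≫ zs s))
    (fun l s k y => by rw [comp_actPt, comp_dv, Category.assoc, Category.assoc])
    (fun s t k k' y => by
      rw [dv_trans hP.1 (k ≫ xs s) (k' ≫ xs t) y, actPt_mul, hindep₀])
  have hreq : a.act ≫ r = (Red.bc f (SekSuwa.GK R lam N h) ◁ r) ≫ (bQ.bc f).act := by
    refine ext_local hcov fun T s k y => ?_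
    have ey : y = lift (y ≫ fst _ _) (y ≫ snd _ _) := by rw [← comp_lift, lift_fst_snd, Category.comp_id]
    rw [ey, lift_whiskerLeft_assoc]
    rw [show lift (y ≫ fst _ _) (y ≫ snd _ _) ≫ a.act ≫ r = actPt a (y ≫ fst _ _) (y ≫ snd _ _) ≫ r from
      (Category.assoc _ _ _).symm, hr T s k, hr T s k, dv_actPt, actPt_mul]
    rfl
  haveI : IsIso r := isIso_of_equivariant hfp (NonAbH1.isPseudoTorsorSch_bc f hbQ.1) r hreq
  exact ⟨Q, bQ, asIso r, hbQ, hreq⟩

end Groth.Agent.SekSuwa3
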