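import Groth.Prelude.Def_SekSuwa2
import Groth.Prelude.Def_NonAbH2
import Groth.Agent.SekSuwaKer5.Main
import Groth.Agent.SekSuwa3.SpecPoints
import Groth.Agent.NonAb.SchTorsor

/-! The `G_{λ,N}`-torsor `Spec R[t]/(P(t) - b)` attached to `b` with `1 + λ^N b` a unit. -/

set_option autoImplicit false
set_option backward.isDefEq.respectTransparency false
set_option backward.isDefEq.respectTransparency.types false

universe u

open CategoryTheory CategoryTheory.Limits MonoidalCategory CartesianMonoidalCategory MonObj AlgebraicGeometry Polynomial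
open scoped TensorProduct

noncomputable section

namespace Groth.Agent.SekSuwa3

open SekSuwa Abs

variable {R : Type u} [CommRing R] (lam : R) (N : ℕ) (h : DivCond lam N) (b : R)

/-- `P_{λ,N}(t) - b`. -/
abbrev fibPoly : R[X] := psiPoly lam N h - Polynomial.C b

/-- The fibre `ψ⁻¹(b)`. -/
abbrev fib : Over (Spec (CommRingCat.of R)) := specO R (AdjoinRoot (fibPoly lam N h b))

theorem eval_cocycle {C : Type u} [CommRing C] [Algebra R C] (x y : C) :
    aeval (x + y + algebraMap R C lam * x * y) (psiPoly lam N h) = aeval x (psiPoly lam N h) +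
      aeval y (psiPoly lam N h) + algebraMap R C (lam ^ N) * aeval x (psiPoly lam N h) * aeval y (psiPoly lam N h) := by
  have e := congrArg (MvPolynomial.aeval (R := R) ![x, y]) (psiPoly_cocycle h)
  simpa [← Polynomial.aeval_algHom_apply] using e

variable {lam N h b}

theorem ext_root {T : Over (Spec (CommRingCat.of R))} {x y : T ⟶ fib lam N h b}
    (e : fn x (AdjoinRoot.root _) = fn y (AdjoinRoot.root _)) : x = y := by
  letI := algΓ T
  exact fn_injective (congrArg AlgHom.toRingHom (AdjoinRoot.algHom_ext (g₁ := fnAlg x) (g₂ := fnAlg y) e))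

theorem root_eq {T : Over (Spec (CommRingCat.of R))} (x : T ⟶ fib lam N h b) :
    letI := algΓ T
    aeval (fn x (AdjoinRoot.root _)) (psiPoly lam N h) = algebraMap R Γ(T.left, ⊤) b := by
  letI := algΓ T
  have e : aeval (fnAlg x (AdjoinRoot.root (fibPoly lam N h b))) (fibPoly lam N h b) = 0 := by
    rw [aeval_algHom_apply, AdjoinRoot.aeval_eq, AdjoinRoot.mk_self, map_zero]
  rw [map_sub, aeval_C, sub_eq_zero] at e
  exact e

theorem exists_root {T : Over (Spec (CommRingCat.of R))} (z : Γ(T.left, ⊤)) :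
    letI := algΓ T
    aeval z (psiPoly lam N h) = algebraMap R Γ(T.left, ⊤) b → ∃ x : T ⟶ fib lam N h b, fn x (AdjoinRoot.root _) = z := by
  letI := algΓ T
  intro hz
  have hz' : (fibPoly lam N h b).eval₂ (Algebra.ofId R Γ(T.left, ⊤) : R →+* Γ(T.left, ⊤)) z = 0 := by
    show aeval z (fibPoly lam N h b) = 0
    rw [map_sub, aeval_C, hz, sub_self]
  obtain ⟨x, hx⟩ := fnAlg_surjective (A := AdjoinRoot (fibPoly lam N h b)) (AdjoinRoot.liftAlgHom _ _ z hz')
  exact ⟨x, (DFunLike.congr_fun hx _).trans (AdjoinRoot.liftAlgHom_root _ _ _ _)⟩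

theorem gk_eval {T : Over (Spec (CommRingCat.of R))} (x : T ⟶ GK R lam N h) :
    letI := algΓ T
    aeval (fn x AK.t) (psiPoly lam N h) = 0 := by
  letI := algΓ T
  show aeval (fnAlg x AK.t) _ = 0
  rw [aeval_algHom_apply, AK.aeval_t, map_zero]

theorem gk_ext (hN : 0 < N) {T : Over (Spec (CommRingCat.of R))} {x y : T ⟶ GK R lam N h}
    (e : fn x AK.t = fn y AK.t) : x = y := by
  letI := algΓ T
  refine fn_injective (congrArg AlgHom.toRingHom (AlgHom.ext fun a => ?_ : fnAlg x = fnAlg y))
  obtain ⟨c, rfl⟩ := (SekSuwaKer5.equivRoot R lam N h hN).surjective a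
  refine DFunLike.congr_fun (AdjoinRoot.algHom_ext
    (g₁ := (fnAlg x).comp (SekSuwaKer5.equivRoot R lam N h hN).toAlgHom)
    (g₂ := (fnAlg y).comp (SekSuwaKer5.equivRoot R lam N h hN).toAlgHom) ?_) c
  show fn x (SekSuwaKer5.equivRoot R lam N h hN (AdjoinRoot.root _)) = fn y (SekSuwaKer5.equivRoot R lam N h hN (AdjoinRoot.root _))
  rw [show SekSuwaKer5.equivRoot R lam N h hN (AdjoinRoot.root _) = AK.t from
    AdjoinRoot.liftAlgHom_root (psiPoly lam N h) (Algebra.ofId R (AK R lam N h)) AK.t AK.aeval_t]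
  exact e

theorem exists_gk (hN : 0 < N) {T : Over (Spec (CommRingCat.of R))} (z : Γ(T.left, ⊤)) :
    letI := algΓ T
    aeval z (psiPoly lam N h) = 0 → ∃ x : T ⟶ GK R lam N h, fn x AK.t = z := by
  letI := algΓ T
  intro hz
  obtain ⟨x, hx⟩ := fnAlg_surjective (A := AK R lam N h)
    ((AdjoinRoot.liftAlgHom (psiPoly lam N h) (Algebra.ofId R Γ(T.left, ⊤)) z hz).comp
      (SekSuwaKer5.equivRoot R lam N h hN).symm.toAlgHom)
  refine ⟨x, (DFunLike.congr_fun hx AK.t).trans ?_⟩
  show AdjoinRoot.liftAlgHom _ _ _ hz ((SekSuwaKer5.equivRoot R lam N h hN).symm AK.t) = z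
  rw [show (AK.t : AK R lam N h) = SekSuwaKer5.equivRoot R lam N h hN (AdjoinRoot.root _) from
    (AdjoinRoot.liftAlgHom_root (psiPoly lam N h) (Algebra.ofId R (AK R lam N h)) AK.t AK.aeval_t).symm,
    AlgEquiv.symm_apply_apply]
  exact AdjoinRoot.liftAlgHom_root _ _ _ _

theorem gk_mul {T : Over (Spec (CommRingCat.of R))} (x y : T ⟶ GK R lam N h) :
    letI := algΓ T
    fn (x * y) AK.t = fn x AK.t + fn y AK.t + algebraMap R Γ(T.left, ⊤) lam * fn x AK.t * fn y AK.t := by
  letI := algΓ T
  rw [fn_mul, AK.comul_t]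
  simp [Algebra.smul_def, mul_assoc]
  rfl

theorem gk_isUnit (hN : 0 < N) {T : Over (Spec (CommRingCat.of R))} (x : T ⟶ GK R lam N h) :
    letI := algΓ T
    IsUnit (1 + algebraMap R Γ(T.left, ⊤) lam * fn x AK.t) := by
  letI := algΓ T
  refine (isUnit_pow_iff hN.ne').1 ?_
  have e := aeval_psiPoly h (fn x AK.t)
  rw [gk_eval, mul_zero, eq_comm, sub_eq_zero] at e
  rw [e]
  exact isUnit_one

theorem gk_one (hN : 0 < N) {T : Over (Spec (CommRingCat.of R))} : fn (1 : T ⟶ GK R lam N h) AK.t = 0 := by
  letI := algΓ T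
  have e := gk_mul (1 : T ⟶ GK R lam N h) 1
  rw [_root_.mul_one] at e
  exact (gk_isUnit hN (1 : T ⟶ GK R lam N h)).mul_right_eq_zero.1 (by linear_combination -e)

/-- The fibre is a torsor. -/
theorem exists_fib_action (hN : 0 < N) (hb : IsUnit (1 + lam ^ N * b)) :
    ∃ a : AlgGrp.Action (GK R lam N h) (fib lam N h b), NonAbH1.IsPseudoTorsorSch a ∧
      ∀ {T : Over (Spec (CommRingCat.of R))} (g : T ⟶ GK R lam N h) (x : T ⟶ fib lam N h b),
        letI := algΓ T
        fn (lift g x ≫ a.act) (AdjoinRoot.root _) = fn g AK.t + fn x (AdjoinRoot.root _) +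
          algebraMap R Γ(T.left, ⊤) lam * fn g AK.t * fn x (AdjoinRoot.root _) := by
  have hF : ∀ {T : Over (Spec (CommRingCat.of R))} (g : T ⟶ GK R lam N h) (x : T ⟶ fib lam N h b),
      letI := algΓ T
      aeval (fn g AK.t + fn x (AdjoinRoot.root _) + algebraMap R Γ(T.left, ⊤) lam * fn g AK.t *
        fn x (AdjoinRoot.root _)) (psiPoly lam N h) = algebraMap R Γ(T.left, ⊤) b := by
    intro T g x
    letI := algΓ T
    rw [eval_cocycle, gk_eval, root_eq]
    ring
  obtain ⟨m, hm⟩ := exists_root _ (hF (fst (GK R lam N h) (fib lam N h b)) (snd _ _))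
  have hm' : ∀ {T : Over (Spec (CommRingCat.of R))} (z : T ⟶ GK R lam N h ⊗ fib lam N h b),
      letI := algΓ T
      fn (z ≫ m) (AdjoinRoot.root _) = fn (z ≫ fst _ _) AK.t + fn (z ≫ snd _ _) (AdjoinRoot.root _) +
        algebraMap R Γ(T.left, ⊤) lam * fn (z ≫ fst _ _) AK.t * fn (z ≫ snd _ _) (AdjoinRoot.root _) := by
    intro T z
    letI := algΓ T
    letI := algΓ (GK R lam N h ⊗ fib lam N h b)
    rw [fn_comp, hm, map_add, map_add, map_mul, map_mul, appTop_algebraMap z]
    rfl
  have hml : ∀ {T : Over (Spec (CommRingCat.of R))} (g : T ⟶ GK R lam N h) (x : T ⟶ fib lam N h b),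
      letI := algΓ T
      fn (lift g x ≫ m) (AdjoinRoot.root _) = fn g AK.t + fn x (AdjoinRoot.root _) +
        algebraMap R Γ(T.left, ⊤) lam * fn g AK.t * fn x (AdjoinRoot.root _) := by
    intro T g x
    rw [hm', lift_fst, lift_snd]
  let a : AlgGrp.Action (GK R lam N h) (fib lam N h b) :=
    { act := m
      one_act := by
        apply ext_root
        rw [show (η[GK R lam N h] ▷ fib lam N h b) = lift (1 : _ ⟶ GK R lam N h) (snd _ _) from by
          apply CartesianMonoidalCategory.hom_ext
          · rw [whiskerRight_fst, lift_fst, Hom.one_def]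
            exact congrArg (· ≫ η[GK R lam N h]) (toUnit_unique _ _)
          · rw [whiskerRight_snd, lift_snd], hml, gk_one hN, leftUnitor_hom]
        ring
      mul_act := by
        apply ext_root
        have e1 : (μ[GK R lam N h] ▷ fib lam N h b) =
            lift ((fst _ _ ≫ fst _ _) * (fst _ _ ≫ snd _ _)) (snd _ _) := by
          apply CartesianMonoidalCategory.hom_ext
          · rw [whiskerRight_fst, lift_fst, Hom.mul_def, ← comp_lift_assoc, lift_fst_snd, Category.id_comp]
          · rw [whiskerRight_snd, lift_snd]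
        have e2 : (α_ (GK R lam N h) (GK R lam N h) (fib lam N h b)).hom ≫ (GK R lam N h ◁ m) =
            lift (fst _ _ ≫ fst _ _) (lift (fst _ _ ≫ snd _ _) (snd _ _) ≫ m) := by
          apply CartesianMonoidalCategory.hom_ext
          · simp
          · rw [Category.assoc, whiskerLeft_snd, lift_snd, ← Category.assoc]
            congr 1
            apply CartesianMonoidalCategory.hom_ext <;> simp
        rw [e1, hml, gk_mul, ← Category.assoc (α_ _ _ _).hom, e2, hml, hml]
        ring }
  refine ⟨a, ?_, fun g x => hml g x⟩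
  -- inverse of the shear map
  let T : Over (Spec (CommRingCat.of R)) := fib lam N h b ⊗ fib lam N h b
  letI := algΓ T
  let y := fn (fst (fib lam N h b) (fib lam N h b)) (AdjoinRoot.root _)
  let x := fn (snd (fib lam N h b) (fib lam N h b)) (AdjoinRoot.root _)
  let u := 1 + algebraMap R Γ(T.left, ⊤) lam * x
  have hux : IsUnit u := by
    refine (isUnit_pow_iff hN.ne').1 ?_
    have e := aeval_psiPoly h x
    rw [root_eq] at e
    rw [show u ^ N = algebraMap R Γ(T.left, ⊤) (1 + lam ^ N * b) by
      rw [map_add, map_one, map_mul]; linear_combination -e]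
    exact hb.map _
  obtain ⟨v, hv⟩ := hux.exists_right_inv
  have hd : aeval ((y - x) * v) (psiPoly lam N h) = 0 := by
    have hy : y = (y - x) * v + x + algebraMap R Γ(T.left, ⊤) lam * ((y - x) * v) * x := by
      linear_combination -(y - x) * hv
    have e := eval_cocycle lam N h ((y - x) * v) x
    rw [← hy, root_eq, root_eq] at e
    refine (hb.map (algebraMap R Γ(T.left, ⊤))).mul_left_eq_zero.1 ?_
    rw [map_add, map_one, map_mul]
    linear_combination -e
  obtain ⟨d, hdt⟩ := exists_gk hN _ hd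
  refine ⟨lift d (snd _ _), ?_, ?_⟩
  · apply CartesianMonoidalCategory.hom_ext
    · apply gk_ext hN
      rw [Category.assoc, lift_fst, Category.id_comp, fn_comp, hdt]
      letI := algΓ (GK R lam N h ⊗ fib lam N h b)
      set z := lift m (snd (GK R lam N h) (fib lam N h b))
      have hy : z.left.appTop y = fn m (AdjoinRoot.root _) := by
        show fn (z ≫ fst _ _) _ = _
        rw [lift_fst]
      have hx : z.left.appTop x = fn (snd (GK R lam N h) (fib lam N h b)) (AdjoinRoot.root _) := by
        show fn (z ≫ snd _ _) _ = _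
        rw [lift_snd]
      have hvv := ((map_mul z.left.appTop.hom u v).symm.trans ((congrArg z.left.appTop.hom hv).trans (map_one _)))
      rw [map_add, map_one, map_mul] at hvv
      change (1 + z.left.appTop (algebraMap R Γ(T.left, ⊤) lam) * z.left.appTop x) * z.left.appTop v = 1 at hvv
      rw [appTop_algebraMap z, hx] at hvv
      rw [map_mul, map_sub, hy, hx, hm]
      linear_combination (fn (fst (GK R lam N h) (fib lam N h b)) AK.t) * hvv
    · rw [Category.assoc, lift_snd, lift_snd, Category.id_comp]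
  · apply CartesianMonoidalCategory.hom_ext
    · rw [Category.assoc, lift_fst, Category.id_comp]
      apply ext_root
      rw [show lift d (snd _ _) ≫ a.act = lift d (snd _ _) ≫ m from rfl, hml, hdt]
      show _ = y
      linear_combination (y - x) * hv
    · rw [Category.assoc, lift_snd, lift_snd, Category.id_comp]

theorem fibPoly_monic [Nontrivial R] (hN : 0 < N) :
    (fibPoly lam N h b).Monic ∧ (fibPoly lam N h b).natDegree = N := by
  obtain ⟨hm, hd⟩ := SekSuwaKer5.psiPoly_monic R lam N h hN
  have hN' := hd inferInstance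
  refine ⟨hm.sub_of_left (lt_of_le_of_lt degree_C_le ?_), by rw [natDegree_sub_C, hN']⟩
  rw [degree_eq_natDegree hm.ne_zero, hN']
  exact_mod_cast hN

/-- The fibre is an fppf torsor. -/
theorem exists_fib_torsor [Nontrivial R] (hN : 0 < N) (hb : IsUnit (1 + lam ^ N * b)) :
    ∃ a : AlgGrp.Action (GK R lam N h) (fib lam N h b), NonAbH1.IsTorsorFor Scheme.fppfPrecoverage a ∧
      ∀ {T : Over (Spec (CommRingCat.of R))} (g : T ⟶ GK R lam N h) (x : T ⟶ fib lam N h b),
        letI := algΓ T
        fn (lift g x ≫ a.act) (AdjoinRoot.root _) = fn g AK.t + fn x (AdjoinRoot.root _) +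
          algebraMap R Γ(T.left, ⊤) lam * fn g AK.t * fn x (AdjoinRoot.root _) := by
  obtain ⟨a, ha, hf⟩ := exists_fib_action hN hb
  obtain ⟨hm, hd⟩ := fibPoly_monic (lam := lam) (h := h) (b := b) hN
  let π := (fib lam N h b).hom
  haveI : Module.Free R (AdjoinRoot (fibPoly lam N h b)) := Module.Free.of_basis (AdjoinRoot.powerBasis' hm).basis
  haveI : Module.Finite R (AdjoinRoot (fibPoly lam N h b)) := Module.Finite.of_basis (AdjoinRoot.powerBasis' hm).basis
  haveI : Nontrivial (AdjoinRoot (fibPoly lam N h b)) := by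
    refine Ideal.Quotient.nontrivial_iff.2 fun e => ?_
    have e1 := hm.isUnit_iff.1 (Ideal.span_singleton_eq_top.1 e)
    rw [e1, natDegree_one] at hd
    omega
  haveI : Module.FaithfullyFlat R (AdjoinRoot (fibPoly lam N h b)) := inferInstance
  haveI : Flat π := by
    show Flat (Spec.map (CommRingCat.ofHom (algebraMap R (AdjoinRoot (fibPoly lam N h b)))))
    rw [Flat.SpecMap_iff]
    exact RingHom.flat_algebraMap_iff.mpr inferInstance
  haveI : Surjective π := ⟨fun p => PrimeSpectrum.comap_surjective_of_faithfullyFlat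
    (A := R) (B := AdjoinRoot (fibPoly lam N h b)) p⟩
  haveI : LocallyOfFinitePresentation π := by
    show LocallyOfFinitePresentation (Spec.map (CommRingCat.ofHom (algebraMap R (AdjoinRoot (fibPoly lam N h b)))))
    rw [HasRingHomProperty.Spec_iff (P := @LocallyOfFinitePresentation)]
    haveI : Algebra.FinitePresentation R (AdjoinRoot (fibPoly lam N h b)) := inferInstance
    exact RingHom.finitePresentation_algebraMap.2 this
  refine ⟨a, ⟨ha, _, π.singleton_mem_fppfPrecoverage, ?_⟩, hf⟩
  rintro _ _ ⟨⟩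
  exact ⟨𝟙 _, Category.id_comp _⟩

end Groth.Agent.SekSuwa3
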