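import Groth.Prelude.Def_SekSuwa
import Groth.Agent.SekSuwa3.BCPoints
import Mathlib.RingTheory.Flat.TorsionFree

/-! Points of base changes of `G^(λ)`: the multiplicative coordinate `1 + λt`. -/

set_option autoImplicit false

universe u

open CategoryTheory CategoryTheory.Limits AlgebraicGeometry MonoidalCategory CartesianMonoidalCategory MonObj
open scoped TensorProduct

noncomputable section

namespace Groth.Agent.SekSuwa3

open SekSuwa

variable {R : Type u} [CommRing R] (lam : R) {S : Scheme.{u}} (g : S ⟶ Spec (CommRingCat.of R))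

variable {lam g}

/-- The value of `1 + λt` at a point. -/
def U {X : Over S} (x : X ⟶ bcA g (SekSuwa.A R lam)) : Γ(X.left, ⊤) := fn x A.u

theorem U_eq {X : Over S} (x : X ⟶ bcA g (SekSuwa.A R lam)) :
    letI := algOf g X
    U x = 1 + algebraMap R Γ(X.left, ⊤) lam * fn x A.t := by
  rw [U, A.u_def, map_add, map_one, map_mul, fn_commutes]

theorem U_mul {X : Over S} (x y : X ⟶ bcA g (SekSuwa.A R lam)) : U (x * y) = U x * U y := by
  letI := algOf g X
  rw [U, fn_mul, A.comul_u, Algebra.TensorProduct.map_tmul, Algebra.TensorProduct.lmul'_apply_tmul]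
  rfl

theorem U_comp {X X' : Over S} (h : X' ⟶ X) (x : X ⟶ bcA g (SekSuwa.A R lam)) :
    U (h ≫ x) = h.left.appTop (U x) := rfl

theorem isUnit_U {X : Over S} (x : X ⟶ bcA g (SekSuwa.A R lam)) : IsUnit (U x) :=
  A.isUnit_u.map (fn x)

theorem U_one {X : Over S} : U (1 : X ⟶ bcA g (SekSuwa.A R lam)) = 1 := by
  have h := (congrArg U (_root_.mul_one (1 : X ⟶ bcA g (SekSuwa.A R lam)))).symm.trans (U_mul _ _)
  exact (isUnit_U _).mul_eq_left.1 h.symm

theorem U_inv_mul {X : Over S} (x : X ⟶ bcA g (SekSuwa.A R lam)) : U x⁻¹ * U x = 1 := by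
  rw [← U_mul, inv_mul_cancel, U_one]

theorem ext_U {X : Over S}
    (hreg : letI := algOf g X; IsSMulRegular Γ(X.left, ⊤) lam)
    {x y : X ⟶ bcA g (SekSuwa.A R lam)} (h : U x = U y) : x = y := by
  letI := algOf g X
  have ht : fn x A.t = fn y A.t := by
    rw [U_eq, U_eq, add_right_inj] at h
    refine hreg ?_
    show lam • fn x A.t = lam • fn y A.t
    rw [Algebra.smul_def, Algebra.smul_def]
    exact h
  have hi : fn x A.inv = fn y A.inv := by
    refine (isUnit_U x).mul_left_cancel ?_
    conv_rhs => rw [h]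
    unfold U
    rw [← map_mul, ← map_mul, A.u_mul_inv, map_one, map_one]
  exact fn_injective (congrArg AlgHom.toRingHom (A.algHom_ext (f := fnAlg x) (g := fnAlg y) ht hi))

theorem exists_U {X : Over S} (b : Γ(X.left, ⊤)) :
    letI := algOf g X
    IsUnit (1 + algebraMap R Γ(X.left, ⊤) lam * b) →
      ∃ x : X ⟶ bcA g (SekSuwa.A R lam), U x = 1 + algebraMap R Γ(X.left, ⊤) lam * b := by
  letI := algOf g X
  intro hb
  rw [← Algebra.smul_def] at hb
  obtain ⟨x, hx⟩ := fnAlg_surjective (g := g) (A := SekSuwa.A R lam) (A.lift R lam b _ hb.mul_val_inv)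
  refine ⟨x, ?_⟩
  rw [U_eq, show fn x A.t = b from (DFunLike.congr_fun hx A.t).trans (A.lift_t _ _ _)]

/-- On an affine scheme flat over the base ring a nonzero scalar of a domain is regular. -/
theorem regular_of_flat [IsDomain R] (hlam : lam ≠ 0) {B : Type u} [CommRing B] [Algebra R B] [Module.Flat R B]
    {X : Over S} (e : Γ(X.left, ⊤) →+* B) (he : Function.Injective e)
    (hc : letI := algOf g X; ∀ r, e (algebraMap R Γ(X.left, ⊤) r) = algebraMap R B r) :
    letI := algOf g X
    IsSMulRegular Γ(X.left, ⊤) lam := by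
  letI := algOf g X
  intro a b h
  refine he ((Module.Flat.isSMulRegular_of_nonZeroDivisors (M := B) (mem_nonZeroDivisors_of_ne_zero hlam)) ?_)
  show lam • e a = lam • e b
  rw [Algebra.smul_def, Algebra.smul_def, ← hc, ← map_mul, ← map_mul, ← Algebra.smul_def, ← Algebra.smul_def]
  exact congrArg e h

end Groth.Agent.SekSuwa3
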